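import Cfsg.Agent.SmallS16.GapA.Tools
import Cfsg.Agent.Lib.SmallGroups.Orbits

set_option autoImplicit false

/-!
# The orders 1716, 3432 and 3360
-/

namespace Cfsg.Agent.SmallS16.GapA

open Subgroup MulAction SmallGroups
open SO89 (sylow_mem shape shape_eq cross_normalizer card_three_orders)

variable {G : Type*} [Group G] [Finite G]

omit [Finite G] in
theorem relIndex_le {p : ℕ} [Fact p.Prime] (hp : 2 ≤ p) {P : Subgroup G} [Finite G]
    (hP : Nat.card P = p) :
    (centralizer (P : Set G)).relIndex (normalizer (P : Set G)) ≤ p - 1 :=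
  Nat.le_of_dvd (by omega) (relIndex_centralizer_dvd_of_prime P hP)

/-- Three primes without mixed elements whose counts are too large. -/
theorem false_of_counts {p q r n E F H : ℕ} [Fact p.Prime] [Fact q.Prime] [Fact r.Prime]
    (hn : Nat.card G = n)
    (hP : ∀ P : Sylow p G, Nat.card ↥(P : Subgroup G) = p ∧
      (centralizer ((P : Subgroup G) : Set G)).relIndex (normalizer ((P : Subgroup G) : Set G)) ≤ E ∧
      ¬ q ∣ Nat.card ↥(centralizer ((P : Subgroup G) : Set G)) ∧
      ¬ r ∣ Nat.card ↥(centralizer ((P : Subgroup G) : Set G)))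
    (hQ : ∀ P : Sylow q G, Nat.card ↥(P : Subgroup G) = q ∧
      (centralizer ((P : Subgroup G) : Set G)).relIndex (normalizer ((P : Subgroup G) : Set G)) ≤ F ∧
      ¬ r ∣ Nat.card ↥(centralizer ((P : Subgroup G) : Set G)))
    (hR : ∀ P : Sylow r G, Nat.card ↥(P : Subgroup G) = r ∧
      (centralizer ((P : Subgroup G) : Set G)).relIndex (normalizer ((P : Subgroup G) : Set G)) ≤ H)
    (h : p * E * (q * F) * (r * H) * n <
      (p - 1) * (q * F) * (r * H) * n + (q - 1) * (p * E) * (r * H) * n +
        (r - 1) * (p * E) * (q * F) * n) : False := by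
  have h1 := card_dvd_orderOf (p := p) (E := E) hn fun P => ⟨(hP P).1, (hP P).2.1⟩
  have h2 := card_dvd_orderOf (p := q) (E := F) hn fun P => ⟨(hQ P).1, (hQ P).2.1⟩
  have h3 := card_dvd_orderOf (p := r) (E := H) hn fun P => ⟨(hR P).1, (hR P).2⟩
  have h4 := card_three_disjoint (P := fun g : G => p ∣ orderOf g) (Q := fun g : G => q ∣ orderOf g)
    (R := fun g : G => r ∣ orderOf g)
    (fun g hg => not_mixed (p := p) (q := q) (fun P => ⟨(hP P).1, (hP P).2.2.1⟩) g hg)
    (fun g hg => not_mixed (p := p) (q := r) (fun P => ⟨(hP P).1, (hP P).2.2.2⟩) g hg)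
    (fun g hg => not_mixed (p := q) (q := r) (fun P => ⟨(hQ P).1, (hQ P).2.2⟩) g hg)
  rw [hn] at h4
  have h5 := Nat.mul_le_mul_right ((q * F) * (r * H)) h1
  have h6 := Nat.mul_le_mul_right ((p * E) * (r * H)) h2
  have h7 := Nat.mul_le_mul_right ((p * E) * (q * F)) h3
  have h8 := Nat.mul_le_mul_left (p * E * (q * F) * (r * H)) h4
  nlinarith

variable [IsSimpleGroup G]

theorem not_1716 (hG : ¬ IsMulCommutative G) : Nat.card G ≠ 1716 := by
  intro hn
  have : Fact (Nat.Prime 3) := ⟨by norm_num⟩
  have : Fact (Nat.Prime 11) := ⟨by norm_num⟩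
  have : Fact (Nat.Prime 13) := ⟨by norm_num⟩
  have h3 := sylow_mem hG (q := 3) (a := 1) (m := 572) (by rw [hn]; norm_num) (by norm_num)
    (by norm_num) (by norm_num) [286] (by decide +kernel)
  have h11 := sylow_mem hG (q := 11) (a := 1) (m := 156) (by rw [hn]; norm_num) (by norm_num)
    (by norm_num) (by norm_num) [78] (by decide +kernel)
  have h13 := sylow_mem hG (q := 13) (a := 1) (m := 132) (by rw [hn]; norm_num) (by norm_num)
    (by norm_num) (by norm_num) [66] (by decide +kernel)
  have h := card_three_orders (G := G) (p := 3) (q := 11) (r := 13) (by norm_num) (by norm_num)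
    (by norm_num)
    (fun R => (card_sylow_eq (a := 1) (m := 572) (by rw [hn]; norm_num) (by norm_num) R).trans
      (pow_one 3))
    (fun R => (card_sylow_eq (a := 1) (m := 156) (by rw [hn]; norm_num) (by norm_num) R).trans
      (pow_one 11))
    (fun R => (card_sylow_eq (a := 1) (m := 132) (by rw [hn]; norm_num) (by norm_num) R).trans
      (pow_one 13))
  rw [List.mem_singleton.mp h3, List.mem_singleton.mp h11, List.mem_singleton.mp h13, hn] at h
  omega

theorem not_3432 (hG : ¬ IsMulCommutative G) : Nat.card G ≠ 3432 := by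
  intro hn
  have : Fact (Nat.Prime 3) := ⟨by norm_num⟩
  have : Fact (Nat.Prime 11) := ⟨by norm_num⟩
  have : Fact (Nat.Prime 13) := ⟨by norm_num⟩
  have h11 := sylow_mem hG (q := 11) (a := 1) (m := 312) (by rw [hn]; norm_num) (by norm_num)
    (by norm_num) (by norm_num) [78] (by decide +kernel)
  have h13 := sylow_mem hG (q := 13) (a := 1) (m := 264) (by rw [hn]; norm_num) (by norm_num)
    (by norm_num) (by norm_num) [66] (by decide +kernel)
  refine false_of_counts (p := 11) (q := 13) (r := 3) (E := 2) (F := 4) (H := 2) hn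
    (fun P => ?_) (fun P => ?_) (fun R => ?_) (by norm_num)
  · obtain ⟨hP, -, e, he, he2, heN, -, hC, hrel⟩ := shape_eq hG (q := 11) (m := 312) (N := 44)
      (by rw [hn]; norm_num) (by norm_num) (List.mem_singleton.mp h11) (by norm_num) P
    have he' : e = 2 := by
      have : e ≤ 10 := Nat.divisor_le he
      interval_cases e <;> revert he heN <;> decide
    subst he'
    refine ⟨hP, hrel.le, ?_, ?_⟩ <;> rw [hC] <;> norm_num
  · obtain ⟨hP, -, e, he, he2, heN, -, hC, hrel⟩ := shape_eq hG (q := 13) (m := 264) (N := 52)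
      (by rw [hn]; norm_num) (by norm_num) (List.mem_singleton.mp h13) (by norm_num) P
    have he' : e = 2 ∨ e = 4 := by
      have : e ≤ 12 := Nat.divisor_le he
      interval_cases e <;> revert he heN <;> decide
    refine ⟨hP, hrel ▸ (by omega), ?_⟩
    rw [hC]
    rcases he' with rfl | rfl <;> norm_num
  · have hR := (card_sylow_eq (a := 1) (m := 1144) (by rw [hn]; norm_num) (by norm_num) R).trans
      (pow_one 3)
    exact ⟨hR, relIndex_le (by norm_num) hR⟩

theorem not_3360 (hG : ¬ IsMulCommutative G) : Nat.card G ≠ 3360 := by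
  intro hn
  have : Fact (Nat.Prime 3) := ⟨by norm_num⟩
  have : Fact (Nat.Prime 5) := ⟨by norm_num⟩
  have : Fact (Nat.Prime 7) := ⟨by norm_num⟩
  have h7 := sylow_mem hG (q := 7) (a := 1) (m := 480) (by rw [hn]; norm_num) (by norm_num)
    (by norm_num) (by norm_num) [120] (by decide +kernel)
  have h5 := sylow_mem hG (q := 5) (a := 1) (m := 672) (by rw [hn]; norm_num) (by norm_num)
    (by norm_num) (by norm_num) [21, 56, 336] (by decide +kernel)
  have h3 := sylow_mem hG (q := 3) (a := 1) (m := 1120) (by rw [hn]; norm_num) (by norm_num)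
    (by norm_num) (by norm_num) [28, 40, 70, 112, 280] (by decide +kernel)
  have hS3 : ∀ R : Sylow 3 G, Nat.card ↥(R : Subgroup G) = 3 := fun R =>
    (card_sylow_eq (a := 1) (m := 1120) (by rw [hn]; norm_num) (by norm_num) R).trans (pow_one 3)
  have hS5 : ∀ R : Sylow 5 G, Nat.card ↥(R : Subgroup G) = 5 := fun R =>
    (card_sylow_eq (a := 1) (m := 672) (by rw [hn]; norm_num) (by norm_num) R).trans (pow_one 5)
  simp only [List.mem_cons, List.not_mem_nil, or_false] at h5
  rcases h5 with h5 | h5 | h5
  · obtain ⟨P⟩ := (inferInstance : Nonempty (Sylow 5 G))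
    obtain ⟨hP, -, e, he, he2, heN, -, hC, -⟩ := shape_eq hG (q := 5) (m := 672) (N := 160)
      (by rw [hn]; norm_num) (by norm_num) h5 (by norm_num) P
    have h := card_centralizer_dvd hG P hP (by norm_num) (n := 4) (by rw [h5])
    rw [hC, nat_card_alternatingGroup, Nat.card_eq_fintype_card, Fintype.card_fin] at h
    norm_num [Nat.factorial] at h
    have : e ≤ 4 := Nat.divisor_le he
    interval_cases e <;> revert he heN h <;> decide
  · obtain ⟨P⟩ := (inferInstance : Nonempty (Sylow 5 G))
    obtain ⟨hP, -, e, he, he2, heN, -, hC, -⟩ := shape_eq hG (q := 5) (m := 672) (N := 60)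
      (by rw [hn]; norm_num) (by norm_num) h5 (by norm_num) P
    have h3C : 3 ∣ Nat.card ↥(centralizer ((P : Subgroup G) : Set G)) := by
      rw [hC]
      have : e ≤ 4 := Nat.divisor_le he
      interval_cases e <;> revert he heN <;> decide
    obtain ⟨R, hR5⟩ := SO89.cross P hP hS3 h3C
    obtain ⟨hR, hRN, e', he', he2', -, -, hCR, -⟩ := shape_eq hG (q := 3) (m := 1120)
      (N := 3360 / Nat.card (Sylow 3 G)) (by rw [hn]; norm_num) (by norm_num) rfl
      (by
        simp only [List.mem_cons, List.not_mem_nil, or_false] at h3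
        rcases h3 with h | h | h | h | h <;> rw [h] <;> norm_num) R
    have he2'' : e' = 2 := by have : e' ≤ 2 := Nat.divisor_le he'; omega
    subst he2''
    obtain ⟨z, hz, -, hzo, hzR⟩ := SO89.exists_generator hR
    have hCz : centralizer ((R : Subgroup G) : Set G) = centralizer ({z} : Set G) := by
      rw [← hzR, zpowers_eq_closure, centralizer_closure]
    have hone : Nat.card (Sylow 5 ↥(centralizer ({z} : Set G))) = 1 := by
      simp only [List.mem_cons, List.not_mem_nil, or_false] at h3
      rw [hCz] at hCR hR5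
      rcases h3 with h | h | h | h | h <;> rw [h] at hCR <;> norm_num at hCR <;>
        first
        | (rw [hCR] at hR5; norm_num at hR5; done)
        | skip
      · have hd := sylow_centralizer_dvd (p := 5) (r := 3) (m := 4) (by norm_num) hzo (by rw [hCR])
        have h1 := card_sylow_modEq_one 5 ↥(centralizer ({z} : Set G))
        unfold Nat.ModEq at h1
        have := Nat.le_of_dvd (by norm_num) hd
        omega
      · have hd := sylow_centralizer_dvd (p := 5) (r := 3) (m := 1) (by norm_num) hzo (by rw [hCR])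
        exact Nat.dvd_one.mp hd
    have h := mod_le_one (p := 5) (r := 3) (by norm_num) hS5 hzo hone
    rw [h5] at h
    norm_num at h
  · refine false_of_counts (p := 5) (q := 7) (r := 3) (E := 2) (F := 2) (H := 2) hn
      (fun P => ?_) (fun P => ?_) (fun R => ?_) (by norm_num)
    · obtain ⟨hP, -, e, he, he2, heN, hCq, hC, hrel⟩ := shape_eq hG (q := 5) (m := 672) (N := 10)
        (by rw [hn]; norm_num) (by norm_num) h5 (by norm_num) P
      have he' : e = 2 := by
        have : e ≤ 4 := Nat.divisor_le he
        interval_cases e <;> revert he heN <;> decide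
      subst he'
      refine ⟨hP, hrel.le, ?_, ?_⟩ <;> rw [hC] <;> norm_num
    · obtain ⟨hP, -, e, he, he2, heN, hCq, hC, hrel⟩ := shape_eq hG (q := 7) (m := 480) (N := 28)
        (by rw [hn]; norm_num) (by norm_num) (List.mem_singleton.mp h7) (by norm_num) P
      have he' : e = 2 := by
        have : e ≤ 6 := Nat.divisor_le he
        interval_cases e <;> revert he heN <;> decide
      subst he'
      refine ⟨hP, hrel.le, ?_⟩
      rw [hC]; norm_num
    · exact ⟨hS3 R, relIndex_le (by norm_num) (hS3 R)⟩

end Cfsg.Agent.SmallS16.GapA
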