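import Cfsg.Agent.SmallS16.GapA.Tools
import Cfsg.Agent.S0992
import Cfsg.Agent.S0998
import Cfsg.Agent.S1016
import Cfsg.Agent.S1017

set_option autoImplicit false

/-!
# Orders between 1093 and 3640 killed by general theorems
-/

namespace Cfsg.Agent.SmallS16.GapA

open Subgroup SmallGroups

variable {G : Type*} [Group G] [Finite G] [IsSimpleGroup G]

omit [Finite G] [IsSimpleGroup G] in
theorem card_psl {F : Type} [Field F] [Fintype F] {q : ℕ} (hq : Fintype.card F = q)
    (e : G ≃* Matrix.ProjectiveSpecialLinearGroup (Fin 2) F) :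
    Nat.gcd 2 (q - 1) * Nat.card G = q * (q ^ 2 - 1) := by
  have h := LinearGroup.gcd_mul_card_PSL_two (F := F)
  rwa [Nat.card_eq_fintype_card (α := F), hq, ← Nat.card_congr e.toEquiv] at h

theorem not_cofactor (hG : ¬ IsMulCommutative G) (p r q b : ℕ) (hp : p.Prime) (hq : q.Prime)
    (hr : r.Prime) (hpq : p ≠ q) (hpr : p ≠ r) (hqr : q ≠ r) (hn : Nat.card G = p * r * q ^ b)
    (hbig : 168 < Nat.card G) : False := by
  rcases S0998.result (fun h => hG (by exact IsCyclic.isMulCommutative)) p q r b hp hq hr hpq hpr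
    hqr hn with ⟨F, _, _, hF, ⟨e⟩⟩ | ⟨F, _, _, hF, ⟨e⟩⟩
  · have h := card_psl hF e
    norm_num at h
    omega
  · have h := card_psl hF e
    norm_num at h
    omega

theorem not_few (hG : ¬ IsMulCommutative G) (p q b g : ℕ) (hp : p.Prime) (hq : q.Prime)
    (hpq : p ≠ q) (hn : Nat.card G = p * q ^ b * g) (hg : g < p - 1) (hp12 : p < 12)
    (hbig : 1092 < Nat.card G) : False := by
  rcases S0997.result (fun h => hG (by exact IsCyclic.isMulCommutative)) p q b g hp hq hpq hn hg with
    ⟨m, F, _, _, hF, -, ⟨e⟩⟩ | ⟨m, F, _, _, hF, hpm, -, ⟨e⟩⟩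
  · have h := card_psl hF e
    interval_cases p <;> norm_num at h hp <;> omega
  · have h := card_psl hF e
    have hm : m < 4 := by
      by_contra hm
      have := Nat.pow_le_pow_right (show 1 ≤ 2 by norm_num) (not_lt.mp hm)
      omega
    interval_cases m <;> norm_num at h <;> omega

theorem not_three_primes (hG : ¬ IsMulCommutative G) {r a b : ℕ} [Fact r.Prime] (hr2 : 2 ≠ r)
    (hr3 : 3 ≠ r) (hn : Nat.card G = 2 ^ a * 3 ^ b * r)
    (h : ∀ e ∈ (r - 1).divisors, 2 ≤ e → ∀ d, e * d = 2 ^ a * 3 ^ b → d % r ≠ 1) : False := by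
  obtain ⟨S⟩ := (inferInstance : Nonempty (Sylow r G))
  obtain ⟨-, -, e, he2, hed, -, hen⟩ := exists_index_three_primes hG Nat.prime_two Nat.prime_three
    (by norm_num) hr2 hr3 hn S
  refine h e (Nat.mem_divisors.mpr ⟨hed, ?_⟩) he2 _ hen ?_
  · have := (Fact.out : r.Prime).two_le
    omega
  · have hh := card_sylow_modEq_one r G
    unfold Nat.ModEq at hh
    rwa [Nat.mod_eq_of_lt (Fact.out : r.Prime).one_lt] at hh

theorem not_1620 (hG : ¬ IsMulCommutative G) : Nat.card G ≠ 1620 := by
  intro hn
  have : Fact (Nat.Prime 5) := ⟨by norm_num⟩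
  have : Fact (Nat.Prime 2) := ⟨Nat.prime_two⟩
  obtain ⟨S⟩ := (inferInstance : Nonempty (Sylow 5 G))
  obtain ⟨hS, hC, e, he2, hed, hN, hen⟩ := exists_index_three_primes hG (a := 2) (b := 4)
    Nat.prime_two Nat.prime_three (by norm_num) (by norm_num) (by norm_num) (by rw [hn]; norm_num) S
  have hmod := card_sylow_modEq_one 5 G
  unfold Nat.ModEq at hmod
  have he4 : e = 4 := by
    have := Nat.le_of_dvd (by norm_num) hed
    norm_num at hen hed this
    interval_cases e <;> omega
  subst he4
  set N := normalizer ((S : Subgroup G) : Set G)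
  obtain ⟨T⟩ := (inferInstance : Nonempty (Sylow 2 N))
  have hT : Nat.card ↥(T : Subgroup N) = 4 := by
    rw [card_sylow_eq (a := 2) (m := 5) (by rw [hN]; norm_num) (by norm_num) T]; norm_num
  obtain ⟨T', hT'⟩ := (T.2.map N.subtype).exists_le_sylow
  have hT'c : Nat.card ↥(T' : Subgroup G) = 4 := by
    rw [card_sylow_eq (a := 2) (m := 405) (by rw [hn]; norm_num) (by norm_num) T']; norm_num
  have hle : (T' : Subgroup G) = (T : Subgroup N).map N.subtype :=
    (eq_of_le_of_card_ge hT' (by rw [card_map_of_injective (subtype_injective N), hT, hT'c])).symm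
  have hk := (S0992.result hG (by rw [hn]; decide) (by rw [hn]; norm_num) T').1
  obtain ⟨x, hx, hx1, hxo, hxS⟩ := SO89.exists_generator hS
  have hsq : ∀ t ∈ (T' : Subgroup G), t⁻¹ = t := by
    intro t ht
    refine inv_eq_of_mul_eq_one_left ?_
    rw [← pow_two]
    have h2 := Monoid.pow_exponent_eq_one (⟨t, ht⟩ : ↥(T' : Subgroup G))
    rw [hk.exponent_two] at h2
    exact congrArg Subtype.val h2
  have hinv : ∀ t ∈ (T' : Subgroup G), t ≠ 1 → t * x * t⁻¹ = x⁻¹ := by
    intro t ht ht1
    have htN : t ∈ N := by rw [hle] at ht; exact map_subtype_le _ ht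
    have hm : t * x * t⁻¹ ∈ (S : Subgroup G) := (mem_normalizer_iff.mp htN x).mp hx
    obtain ⟨i, hi⟩ := mem_zpowers_iff.mp (hxS ▸ hm)
    have htt : t * t = 1 := by
      conv_lhs => arg 1; rw [← hsq t ht]
      exact inv_mul_cancel t
    have h2 : (x ^ i) ^ i = x := by
      rw [hi, conj_zpow, hi]
      calc t * (t * x * t⁻¹) * t⁻¹ = (t * t) * x * (t * t)⁻¹ := by group
        _ = x := by rw [htt]; group
    rw [← zpow_mul] at h2
    have h3 : ((5 : ℕ) : ℤ) ∣ i * i - 1 := by
      rw [← hxo]
      exact orderOf_dvd_iff_zpow_eq_one.mpr (by rw [zpow_sub, h2, zpow_one, mul_inv_cancel])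
    rcases Int.Prime.dvd_mul' (by norm_num : Nat.Prime 5)
      (show ((5 : ℕ) : ℤ) ∣ (i - 1) * (i + 1) by rwa [show (i - 1) * (i + 1) = i * i - 1 by ring])
      with h | h
    · exfalso
      apply ht1
      have h4 : x ^ i = x := by
        rw [← hxo] at h
        have h5 := orderOf_dvd_iff_zpow_eq_one.mp h
        rwa [zpow_sub, zpow_one, mul_inv_eq_one] at h5
      have htC : t ∈ centralizer ((S : Subgroup G) : Set G) := by
        rw [mem_centralizer_iff]
        intro z hz
        rw [SetLike.mem_coe, ← hxS] at hz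
        obtain ⟨j, rfl⟩ := mem_zpowers_iff.mp hz
        have hc : Commute t x := mul_inv_eq_iff_eq_mul.mp (hi.symm.trans h4)
        exact (hc.zpow_right j).eq.symm
      rw [hC] at htC
      have hd := Subgroup.orderOf_dvd_natCard _ htC
      have hd2 := Subgroup.orderOf_dvd_natCard _ ht
      rw [hS] at hd
      rw [hT'c] at hd2
      exact orderOf_eq_one_iff.mp (Nat.eq_one_of_dvd_coprimes (by norm_num) hd hd2)
    · rw [← hxo] at h
      have h5 := orderOf_dvd_iff_zpow_eq_one.mp h
      rw [zpow_add, zpow_one, hi] at h5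
      exact eq_inv_of_mul_eq_one_left h5
  obtain ⟨a, ha, b, hb, ha1, hb1, hab⟩ : ∃ a ∈ (T' : Subgroup G), ∃ b ∈ (T' : Subgroup G),
      a ≠ 1 ∧ b ≠ 1 ∧ a * b ≠ 1 := by
    classical
    have := Fintype.ofFinite ↥(T' : Subgroup G)
    obtain ⟨a, ha⟩ := Finset.card_pos.mp (show 0 < (Finset.univ.erase (1 : ↥(T' : Subgroup G))).card by
      rw [Finset.card_erase_of_mem (Finset.mem_univ _), Finset.card_univ, ← Nat.card_eq_fintype_card,
        hT'c]; norm_num)
    obtain ⟨b, hb⟩ := Finset.card_pos.mp (show 0 <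
        ((Finset.univ.erase (1 : ↥(T' : Subgroup G))).erase a).card by
      rw [Finset.card_erase_of_mem ha, Finset.card_erase_of_mem (Finset.mem_univ _),
        Finset.card_univ, ← Nat.card_eq_fintype_card, hT'c]; norm_num)
    simp only [Finset.mem_erase, Finset.mem_univ, and_true] at ha hb
    refine ⟨a, a.2, b, b.2, fun h => ha (Subtype.ext h), fun h => hb.2 (Subtype.ext h), fun h => ?_⟩
    apply hb.1
    refine Subtype.ext ?_
    rw [eq_inv_of_mul_eq_one_right h, hsq a a.2]
  have h1 := hinv (a * b) (mul_mem ha hb) hab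
  have h2 : a * b * x * (a * b)⁻¹ = x := by
    calc a * b * x * (a * b)⁻¹ = a * (b * x * b⁻¹) * a⁻¹ := by group
      _ = (a * x * a⁻¹)⁻¹ := by rw [hinv b hb hb1, conj_inv]
      _ = x := by rw [hinv a ha ha1, inv_inv]
  have h3 : orderOf x ∣ 2 := orderOf_dvd_of_pow_eq_one (by
    rw [pow_two]
    nth_rewrite 2 [← h2]
    rw [h1, mul_inv_cancel])
  rw [hxo] at h3
  norm_num at h3

/-- The orders killed by general theorems. -/
theorem not_easy (hG : ¬ IsMulCommutative G) :
    Nat.card G ∉ ([1344, 2464, 2688, 2268, 3168, 1440, 2016, 2880, 3024, 3240, 1620] : List ℕ) := by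
  intro h
  simp only [List.mem_cons, List.not_mem_nil, or_false] at h
  rcases h with hn | hn | hn | hn | hn | hn | hn | hn | hn | hn | hn
  · exact not_cofactor hG 3 7 2 6 (by norm_num) (by norm_num) (by norm_num) (by norm_num)
      (by norm_num) (by norm_num) (by rw [hn]; norm_num) (by omega)
  · exact not_cofactor hG 7 11 2 5 (by norm_num) (by norm_num) (by norm_num) (by norm_num)
      (by norm_num) (by norm_num) (by rw [hn]; norm_num) (by omega)
  · exact not_cofactor hG 3 7 2 7 (by norm_num) (by norm_num) (by norm_num) (by norm_num)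
      (by norm_num) (by norm_num) (by rw [hn]; norm_num) (by omega)
  · exact not_few hG 7 3 4 4 (by norm_num) (by norm_num) (by norm_num) (by rw [hn]; norm_num)
      (by norm_num) (by norm_num) (by omega)
  · exact not_few hG 11 2 5 9 (by norm_num) (by norm_num) (by norm_num) (by rw [hn]; norm_num)
      (by norm_num) (by norm_num) (by omega)
  · exact S1016.result hn
  · exact S1017.result hn
  · have : Fact (Nat.Prime 5) := ⟨by norm_num⟩
    refine not_three_primes hG (r := 5) (a := 6) (b := 2) (by norm_num) (by norm_num)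
      (by rw [hn]; norm_num) fun e he h2 d hd => ?_
    have := Nat.divisor_le he
    norm_num at this hd
    interval_cases e <;> omega
  · have : Fact (Nat.Prime 7) := ⟨by norm_num⟩
    refine not_three_primes hG (r := 7) (a := 4) (b := 3) (by norm_num) (by norm_num)
      (by rw [hn]; norm_num) fun e he h2 d hd => ?_
    have := Nat.divisor_le he
    norm_num at this hd
    interval_cases e <;> omega
  · have : Fact (Nat.Prime 5) := ⟨by norm_num⟩
    refine not_three_primes hG (r := 5) (a := 3) (b := 4) (by norm_num) (by norm_num)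
      (by rw [hn]; norm_num) fun e he h2 d hd => ?_
    have := Nat.divisor_le he
    norm_num at this hd
    interval_cases e <;> first | omega | (exact absurd he (by decide))
  · exact not_1620 hG hn

end Cfsg.Agent.SmallS16.GapA
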