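import Cfsg.Agent.SmallS16.GapA.Local27

set_option autoImplicit false

/-!
# No simple group of order 1512
-/

namespace Cfsg.Agent.SmallS16.GapA

open Subgroup MulAction SmallGroups
open SO89 (sylow_mem)

variable {G : Type*} [Group G] [Finite G] [IsSimpleGroup G]

/-- The commuting pair of `N(P₇)`: an element of order three with a small centraliser. -/
theorem exists_pair_1512 (hG : ¬ IsMulCommutative G) (hn : Nat.card G = 1512) :
    ∃ y t : G, orderOf y = 3 ∧ orderOf t = 2 ∧ Commute t y ∧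
      Nat.card ↥(centralizer ({y} : Set G)) ≤ 36 ∧
      (IsConj y y⁻¹ → Nat.card ↥(centralizer ({y} : Set G)) ≤ 18) := by
  classical
  have : Fact (Nat.Prime 7) := ⟨by norm_num⟩
  have h7 := List.mem_singleton.mp <| sylow_mem hG (q := 7) (a := 1) (m := 216)
    (by rw [hn]; norm_num) (by norm_num) (by norm_num) (by norm_num) [36] (by decide +kernel)
  obtain ⟨P⟩ := (inferInstance : Nonempty (Sylow 7 G))
  obtain ⟨hP, hC, e, -, -, hN, hen⟩ := exists_index_three_primes hG (a := 3) (b := 3)
    Nat.prime_two Nat.prime_three (by norm_num) (by norm_num) (by norm_num) (by rw [hn]; norm_num) P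
  have he : e = 6 := by rw [h7] at hen; norm_num at hen; omega
  subst he
  set N := normalizer ((P : Subgroup G) : Set G)
  obtain ⟨y, hy⟩ := exists_prime_orderOf_dvd_card' (G := N) 3 (by rw [hN]; norm_num)
  rw [← Subgroup.orderOf_coe] at hy
  obtain ⟨t₀, ht₀⟩ := exists_prime_orderOf_dvd_card' (G := N) 2 (by rw [hN]; norm_num)
  rw [← Subgroup.orderOf_coe] at ht₀
  obtain ⟨x, hx, hx1, hxo, hxP⟩ := SO89.exists_generator hP
  have hcomm : ∀ u ∈ (P : Subgroup G), ∀ v ∈ (P : Subgroup G), Commute u v := by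
    intro u hu v hv
    exact (mem_centralizer_iff.mp (le_centralizer_self hP hu) v hv).symm
  -- only `1` in `P` commutes with `y`
  have hfree : ∀ v ∈ (P : Subgroup G), Commute (y : G) v → v = 1 := by
    intro v hv hc
    by_contra hv1
    have : (y : G) ∈ centralizer ((P : Subgroup G) : Set G) := by
      rw [mem_centralizer_iff]
      intro u hu
      rw [SetLike.mem_coe, ← zpowers_eq_of_card_prime hP hv hv1] at hu
      obtain ⟨i, rfl⟩ := mem_zpowers_iff.mp hu
      exact (hc.zpow_right i).eq.symm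
    rw [hC] at this
    have := Subgroup.orderOf_dvd_natCard _ this
    rw [hy, hP] at this
    norm_num at this
  have hconjP : ∀ v ∈ (P : Subgroup G), (y : G) * v * (y : G)⁻¹ ∈ (P : Subgroup G) :=
    fun v hv => (mem_normalizer_iff.mp y.2 v).mp hv
  let F : ↥(P : Subgroup G) → ↥(P : Subgroup G) := fun v =>
    ⟨(v : G)⁻¹ * ((y : G) * v * (y : G)⁻¹), mul_mem (inv_mem v.2) (hconjP v v.2)⟩
  have hF : Function.Injective F := by
    intro v w h
    have h' : (v : G)⁻¹ * ((y : G) * v * (y : G)⁻¹) = (w : G)⁻¹ * ((y : G) * w * (y : G)⁻¹) :=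
      congrArg Subtype.val h
    have hm : (w : G) * (v : G)⁻¹ ∈ (P : Subgroup G) := mul_mem w.2 (inv_mem v.2)
    have h1 : (y : G) * ((w : G) * (v : G)⁻¹) * (y : G)⁻¹ = (w : G) * (v : G)⁻¹ := by
      calc (y : G) * ((w : G) * (v : G)⁻¹) * (y : G)⁻¹
          = (w : G) * ((w : G)⁻¹ * ((y : G) * w * (y : G)⁻¹)) * ((y : G) * v * (y : G)⁻¹)⁻¹ := by
            group
        _ = (w : G) * ((v : G)⁻¹ * ((y : G) * v * (y : G)⁻¹)) * ((y : G) * v * (y : G)⁻¹)⁻¹ := by
            rw [h']
        _ = _ := by group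
    exact Subtype.ext (mul_inv_eq_one.mp (hfree _ hm (mul_inv_eq_iff_eq_mul.mp h1))).symm
  -- `y` and `t₀` commute modulo `P`
  have hmod : (y : G) * t₀ * (y : G)⁻¹ * (t₀ : G)⁻¹ ∈ (P : Subgroup G) := by
    obtain ⟨i, hi⟩ := mem_zpowers_iff.mp (hxP ▸ hconjP x hx)
    obtain ⟨j, hj⟩ := mem_zpowers_iff.mp (hxP ▸ (mem_normalizer_iff.mp t₀.2 x).mp hx)
    have hyx : ∀ k : ℤ, (y : G) * x ^ k * (y : G)⁻¹ = x ^ (i * k) := fun k => by
      rw [← conj_zpow, ← hi, ← zpow_mul]
    have htx : ∀ k : ℤ, (t₀ : G) * x ^ k * (t₀ : G)⁻¹ = x ^ (j * k) := fun k => by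
      rw [← conj_zpow, ← hj, ← zpow_mul]
    have hC' : ((y : G) * t₀ * (y : G)⁻¹ * (t₀ : G)⁻¹) ∈
        centralizer ((P : Subgroup G) : Set G) := by
      have hswap : (y : G) * ((t₀ : G) * x * (t₀ : G)⁻¹) * (y : G)⁻¹ =
          (t₀ : G) * ((y : G) * x * (y : G)⁻¹) * (t₀ : G)⁻¹ := by
        rw [← hj, ← hi, hyx, htx, mul_comm]
      have hkey : ∀ w : G, w ∈ (P : Subgroup G) →
          (y : G) * ((t₀ : G) * w * (t₀ : G)⁻¹) * (y : G)⁻¹ =
          (t₀ : G) * ((y : G) * w * (y : G)⁻¹) * (t₀ : G)⁻¹ := by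
        intro w hw
        rw [← hxP] at hw
        obtain ⟨k, rfl⟩ := mem_zpowers_iff.mp hw
        rw [htx, hyx, hyx, htx]
        congr 1
        ring
      rw [mem_centralizer_iff]
      intro u hu
      have hw : (t₀ : G)⁻¹ * ((y : G)⁻¹ * u * y) * t₀ ∈ (P : Subgroup G) := by
        have h1 := (mem_normalizer_iff.mp (inv_mem y.2) u).mp hu
        rw [inv_inv] at h1
        have h2 := (mem_normalizer_iff.mp (inv_mem t₀.2) _).mp h1
        rwa [inv_inv] at h2
      have h := hkey _ hw
      have h' : u = (t₀ : G) * ((y : G) * ((t₀ : G)⁻¹ * ((y : G)⁻¹ * u * y) * t₀) * (y : G)⁻¹) *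
          (t₀ : G)⁻¹ := by
        rw [← h]; group
      calc u * ((y : G) * t₀ * (y : G)⁻¹ * (t₀ : G)⁻¹)
          = (t₀ : G) * ((y : G) * ((t₀ : G)⁻¹ * ((y : G)⁻¹ * u * y) * t₀) * (y : G)⁻¹) *
              (t₀ : G)⁻¹ * ((y : G) * t₀ * (y : G)⁻¹ * (t₀ : G)⁻¹) := by rw [← h']
        _ = (y : G) * ((t₀ : G) * ((t₀ : G)⁻¹ * ((y : G)⁻¹ * u * y) * t₀) * (t₀ : G)⁻¹) *
              (y : G)⁻¹ * ((y : G) * t₀ * (y : G)⁻¹ * (t₀ : G)⁻¹) := by rw [h]
        _ = u * ((y : G) * t₀ * (y : G)⁻¹ * (t₀ : G)⁻¹) := by group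
        _ = (y : G) * t₀ * (y : G)⁻¹ * (t₀ : G)⁻¹ * u := ?_
      -- the commutator inverts nothing
      have hb : ∀ w : G, w ∈ (P : Subgroup G) →
          ((y : G) * t₀ * (y : G)⁻¹ * (t₀ : G)⁻¹) * w *
            ((y : G) * t₀ * (y : G)⁻¹ * (t₀ : G)⁻¹)⁻¹ = w := by
        intro w hw
        have hw' : (y : G)⁻¹ * ((t₀ : G)⁻¹ * w * t₀) * y ∈ (P : Subgroup G) := by
          have h1 := (mem_normalizer_iff.mp (inv_mem t₀.2) w).mp hw
          rw [inv_inv] at h1
          have h2 := (mem_normalizer_iff.mp (inv_mem y.2) _).mp h1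
          rwa [inv_inv] at h2
        calc ((y : G) * t₀ * (y : G)⁻¹ * (t₀ : G)⁻¹) * w *
              ((y : G) * t₀ * (y : G)⁻¹ * (t₀ : G)⁻¹)⁻¹
            = (y : G) * ((t₀ : G) * ((y : G)⁻¹ * ((t₀ : G)⁻¹ * w * t₀) * y) * (t₀ : G)⁻¹) *
                (y : G)⁻¹ := by group
          _ = (t₀ : G) * ((y : G) * ((y : G)⁻¹ * ((t₀ : G)⁻¹ * w * t₀) * y) * (y : G)⁻¹) *
                (t₀ : G)⁻¹ := hkey _ hw'
          _ = w := by group
      exact (mul_inv_eq_iff_eq_mul.mp (hb u hu)).symm
    rwa [hC] at hC'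
  obtain ⟨v, hv⟩ := (Finite.injective_iff_surjective.mp hF)
    ⟨((y : G) * t₀ * (y : G)⁻¹ * (t₀ : G)⁻¹)⁻¹, inv_mem hmod⟩
  have hv' : (v : G)⁻¹ * ((y : G) * v * (y : G)⁻¹) =
      ((y : G) * t₀ * (y : G)⁻¹ * (t₀ : G)⁻¹)⁻¹ := congrArg Subtype.val hv
  -- the involution `t = v t₀`
  set t := (v : G) * t₀ with htdef
  have hty : Commute t (y : G) := by
    have hu' : (y : G) * v * (y : G)⁻¹ =
        (v : G) * ((y : G) * t₀ * (y : G)⁻¹ * (t₀ : G)⁻¹)⁻¹ := by rw [← hv', mul_inv_cancel_left]
    have : (y : G) * t * (y : G)⁻¹ = t := by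
      calc (y : G) * t * (y : G)⁻¹ = ((y : G) * v * (y : G)⁻¹) *
            (((y : G) * t₀ * (y : G)⁻¹ * (t₀ : G)⁻¹) * t₀) := by rw [htdef]; group
        _ = t := by rw [hu', htdef]; group
    exact (mul_inv_eq_iff_eq_mul.mp this).symm
  have ht : orderOf t = 2 := by
    refine orderOf_eq_prime ?_ fun h => ?_
    · have hinv : (t₀ : G) * v * (t₀ : G)⁻¹ = (v : G)⁻¹ := by
        have hm : (v : G) * ((t₀ : G) * v * (t₀ : G)⁻¹) ∈ (P : Subgroup G) :=
          mul_mem v.2 ((mem_normalizer_iff.mp t₀.2 _).mp v.2)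
        have hsq : (t₀ : G) * t₀ = 1 := by rw [← pow_two, ← ht₀, pow_orderOf_eq_one]
        have hfix : (t₀ : G) * ((v : G) * ((t₀ : G) * v * (t₀ : G)⁻¹)) * (t₀ : G)⁻¹ =
            (v : G) * ((t₀ : G) * v * (t₀ : G)⁻¹) := by
          calc (t₀ : G) * ((v : G) * ((t₀ : G) * v * (t₀ : G)⁻¹)) * (t₀ : G)⁻¹
              = ((t₀ : G) * v * (t₀ : G)⁻¹) * (((t₀ : G) * t₀) * v * ((t₀ : G) * t₀)⁻¹) := by group
            _ = ((t₀ : G) * v * (t₀ : G)⁻¹) * v := by rw [hsq]; group
            _ = _ := (hcomm _ ((mem_normalizer_iff.mp t₀.2 _).mp v.2) _ v.2).eq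
        by_contra hne
        have h1 : (v : G) * ((t₀ : G) * v * (t₀ : G)⁻¹) ≠ 1 := fun h =>
          hne (eq_inv_of_mul_eq_one_right h)
        have : (t₀ : G) ∈ centralizer ((P : Subgroup G) : Set G) := by
          rw [mem_centralizer_iff]
          intro u hu
          rw [SetLike.mem_coe, ← zpowers_eq_of_card_prime hP hm h1] at hu
          obtain ⟨i, rfl⟩ := mem_zpowers_iff.mp hu
          exact ((show Commute (t₀ : G) _ from mul_inv_eq_iff_eq_mul.mp hfix).zpow_right i).eq.symm
        rw [hC] at this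
        have := Subgroup.orderOf_dvd_natCard _ this
        rw [ht₀, hP] at this
        norm_num at this
      calc t ^ 2 = (v : G) * ((t₀ : G) * v * (t₀ : G)⁻¹) * ((t₀ : G) * t₀) := by
            rw [htdef, pow_two]; group
        _ = 1 := by rw [hinv, mul_inv_cancel, one_mul, ← pow_two, ← ht₀, pow_orderOf_eq_one]
    · rw [htdef, mul_eq_one_iff_eq_inv] at h
      have := Subgroup.orderOf_dvd_natCard _ (h ▸ v.2 : (t₀ : G)⁻¹ ∈ (P : Subgroup G))
      rw [orderOf_inv, ht₀, hP] at this
      norm_num at this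
  refine ⟨y, t, hy, ht, hty, ?_⟩
  -- the fixed points of `y`
  have hyC : (y : G) ∉ centralizer ((P : Subgroup G) : Set G) := fun h => by
    rw [hC] at h
    have := Subgroup.orderOf_dvd_natCard _ h
    rw [hy, hP] at this
    norm_num at this
  have hf : Nat.card (fixedBy (G ⧸ N) (y : G)) ≤ 6 := by
    have h1 : Nat.card (fixedBy (G ⧸ normalizer ((P : Subgroup G) : Set G)) (y : G)) ≤
        Nat.card (orbitRel.Quotient ↥(P : Subgroup G)
          (G ⧸ normalizer ((P : Subgroup G) : Set G))) :=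
      Nat.card_le_card_of_injective _ (fixedBy_orbit_injective P hP y.2 hyC)
    have h2 := card_orbits_mul P hP
    rw [h7] at h2
    show Nat.card (fixedBy (G ⧸ normalizer ((P : Subgroup G) : Set G)) (y : G)) ≤ 6
    omega
  have hidx : N.index = 36 := P.card_eq_index_normalizer.symm.trans h7
  have hmul := card_fixedBy_mul N (y : G)
  rw [hidx] at hmul
  have hcl := card_conj_mul_centralizer (G := G) (y : G)
  rw [hn] at hcl
  -- the conjugates of `y` inside `N(P)`
  let g : ↥(P : Subgroup G) → {g : G // IsConj (y : G) g ∧ g ∈ N} := fun u =>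
    ⟨(u : G) * y * (u : G)⁻¹, isConj_iff.mpr ⟨u, rfl⟩,
      mul_mem (mul_mem (le_normalizer u.2) y.2) (inv_mem (le_normalizer u.2))⟩
  have hg : Function.Injective g := by
    intro u w h
    have h' : (u : G) * y * (u : G)⁻¹ = (w : G) * y * (w : G)⁻¹ := congrArg Subtype.val h
    have h1 : (y : G) * ((u : G)⁻¹ * w) * (y : G)⁻¹ = (u : G)⁻¹ * w := by
      calc (y : G) * ((u : G)⁻¹ * w) * (y : G)⁻¹
          = (u : G)⁻¹ * ((u : G) * y * (u : G)⁻¹) * w * (y : G)⁻¹ := by group
        _ = _ := by rw [h']; group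
    exact Subtype.ext (inv_mul_eq_one.mp
      (hfree _ (mul_mem (inv_mem u.2) w.2) (mul_inv_eq_iff_eq_mul.mp h1)))
  have hk := Nat.card_le_card_of_injective g hg
  rw [hP] at hk
  set f := Nat.card (fixedBy (G ⧸ N) (y : G))
  set k := Nat.card {g : G // IsConj (y : G) g ∧ g ∈ N}
  set cl := Nat.card {g : G // IsConj (y : G) g}
  set c := Nat.card ↥(centralizer ({(y : G)} : Set G))
  have hkey : 36 * (k * c) = f * 1512 := by rw [← hcl, ← mul_assoc f, hmul, mul_assoc]
  have hbound : ∀ m, m ≤ k → 36 * (m * c) ≤ 6 * 1512 := fun m hm =>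
    ((Nat.mul_le_mul_left 36 (Nat.mul_le_mul_right c hm)).trans hkey.le).trans
      (Nat.mul_le_mul_right 1512 hf)
  refine ⟨by have := hbound 7 hk; omega, fun hinv => ?_⟩
  -- a second class of `N(P)` when `y` is conjugate to its inverse
  let g2 : ↥(P : Subgroup G) ⊕ ↥(P : Subgroup G) → {g : G // IsConj (y : G) g ∧ g ∈ N} :=
    Sum.elim g fun u => ⟨(u : G) * (y : G)⁻¹ * (u : G)⁻¹, hinv.trans (isConj_iff.mpr ⟨u, rfl⟩),
      mul_mem (mul_mem (le_normalizer u.2) (inv_mem y.2)) (inv_mem (le_normalizer u.2))⟩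
  have hg2 : Function.Injective g2 := by
    have hne : ∀ u w : ↥(P : Subgroup G),
        (u : G) * y * (u : G)⁻¹ ≠ (w : G) * (y : G)⁻¹ * (w : G)⁻¹ := by
      intro u w h
      have hm : (y : G)⁻¹ * (y : G)⁻¹ ∈ (P : Subgroup G) := by
        have h1 : (y : G)⁻¹ * (y : G)⁻¹ =
            ((w : G)⁻¹ * u) * ((y : G) * ((u : G)⁻¹ * w) * (y : G)⁻¹) := by
          calc (y : G)⁻¹ * (y : G)⁻¹ = (w : G)⁻¹ * ((w : G) * (y : G)⁻¹ * (w : G)⁻¹) * w *
                (y : G)⁻¹ := by group
            _ = _ := by rw [← h]; group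
        rw [h1]
        exact mul_mem (mul_mem (inv_mem w.2) u.2) (hconjP _ (mul_mem (inv_mem u.2) w.2))
      have h3 := Subgroup.orderOf_dvd_natCard _ hm
      rw [← mul_inv_rev, orderOf_inv, ← pow_two, Nat.Coprime.orderOf_pow (by rw [hy]; norm_num),
        hy, hP] at h3
      norm_num at h3
    rintro (u | u) (w | w) h
    · exact congrArg Sum.inl (hg h)
    · exact absurd (congrArg Subtype.val h) (hne u w)
    · exact absurd (congrArg Subtype.val h).symm (hne w u)
    · refine congrArg Sum.inr (hg (Subtype.ext ?_))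
      have h' : (u : G) * (y : G)⁻¹ * (u : G)⁻¹ = (w : G) * (y : G)⁻¹ * (w : G)⁻¹ :=
        congrArg Subtype.val h
      show (u : G) * y * (u : G)⁻¹ = (w : G) * y * (w : G)⁻¹
      rw [← inv_inj, conj_inv, conj_inv, h']
  have hk2 := Nat.card_le_card_of_injective g2 hg2
  rw [Nat.card_sum, hP] at hk2
  have := hbound 14 hk2
  omega

theorem not_1512 (hG : ¬ IsMulCommutative G) : Nat.card G ≠ 1512 := by
  classical
  intro hn
  have : Fact (Nat.Prime 2) := ⟨Nat.prime_two⟩
  have : Fact (Nat.Prime 3) := ⟨Nat.prime_three⟩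
  obtain ⟨y, t, hy, ht, hty, h36, h18⟩ := exists_pair_1512 hG hn
  have hn3 := List.mem_singleton.mp <| sylow_mem hG (q := 3) (a := 3) (m := 56)
    (by rw [hn]; norm_num) (by norm_num) (by norm_num) (by norm_num) [28] (by decide +kernel)
  have hR27 : ∀ R : Sylow 3 G, Nat.card ↥(R : Subgroup G) = 27 := fun R => by
    rw [card_sylow_eq (a := 3) (m := 56) (by rw [hn]; norm_num) (by norm_num) R]; norm_num
  have hN54 : ∀ R : Sylow 3 G, Nat.card ↥(normalizer ((R : Subgroup G) : Set G)) = 54 := fun R =>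
    normalizer_conj_eq_card R hn3 (by rw [hn])
  have hperf : commutator G = ⊤ := by
    rcases (inferInstance : (commutator G).Normal).eq_bot_or_eq_top with h | h
    · exfalso
      exact hG ⟨⟨fun a b => by
        have := Subgroup.commutator_mem_commutator (H₁ := (⊤ : Subgroup G)) (H₂ := ⊤)
          (mem_top a) (mem_top b)
        rw [← commutator_def, h, mem_bot, commutatorElement_eq_one_iff_mul_comm] at this
        exact this⟩⟩
    · exact h
  set Y := centralizer ({y} : Set G) with hYdef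
  have hyY : y ∈ Y := mem_centralizer_singleton_iff.mpr rfl
  have htY : t ∈ Y := mem_centralizer_singleton_iff.mpr hty.eq
  -- `y` is central in no Sylow subgroup
  have hnc : ∀ R : Sylow 3 G, y ∈ (R : Subgroup G) →
      ∀ H : Subgroup G, (R : Subgroup G) ≤ H → ¬ H ≤ Y := by
    intro R _ H hRH hHY
    have h1 := Subgroup.card_dvd_of_le (hRH.trans hHY)
    have h2 := Subgroup.orderOf_dvd_natCard _ htY
    rw [hR27] at h1
    rw [ht] at h2
    have := Nat.le_of_dvd Nat.card_pos
      ((show Nat.Coprime 27 2 by norm_num).mul_dvd_of_dvd_of_dvd h1 h2)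
    omega
  have hmoved : ∀ R : Sylow 3 G, y ∈ (R : Subgroup G) → t • R ≠ R := by
    intro R hR hfix
    refine hnc R hR _ le_rfl fun a ha => mem_centralizer_singleton_iff.mpr ?_
    exact (central_of_commute hperf R (hR27 R) (hN54 R) ht
      (Sylow.smul_eq_iff_mem_normalizer.mp hfix) hR hty a ha).eq
  -- `C_R(y)` has order nine
  have hnine : ∀ R : Sylow 3 G, y ∈ (R : Subgroup G) →
      Nat.card ↥((R : Subgroup G) ⊓ Y) = 9 := by
    intro R hR
    set D := (R : Subgroup G) ⊓ Y
    have hd : Nat.card D ∣ 27 := hR27 R ▸ Subgroup.card_dvd_of_le inf_le_left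
    obtain ⟨i, hi, hDi⟩ := (Nat.dvd_prime_pow Nat.prime_three (m := 3)).mp hd
    have hne27 : i ≠ 3 := by
      rintro rfl
      refine hnc R hR _ le_rfl ?_
      have : D = (R : Subgroup G) := eq_of_le_of_card_ge inf_le_left (by rw [hR27, hDi]; norm_num)
      exact this ▸ inf_le_right
    have : Nontrivial ↥(R : Subgroup G) := Finite.one_lt_card_iff_nontrivial.mp (by rw [hR27]; norm_num)
    have hzn := R.2.center_nontrivial
    obtain ⟨z, hz1⟩ := exists_ne (1 : center ↥(R : Subgroup G))
    have hzD : ((z : ↥(R : Subgroup G)) : G) ∈ D := ⟨z.1.2, mem_centralizer_singleton_iff.mpr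
      (congrArg Subtype.val (Subgroup.mem_center_iff.mp z.2 ⟨y, hR⟩)).symm⟩
    have h3 : 3 ≤ Nat.card D := by
      rw [← hy]
      exact Nat.le_of_dvd Nat.card_pos (Subgroup.orderOf_dvd_natCard _ (show y ∈ D from ⟨hR, hyY⟩))
    have hne3 : i ≠ 1 := by
      rintro rfl
      have hD : Nat.card D = 3 := hDi.trans (pow_one 3)
      have hzy := zpowers_eq_of_card_prime hD hzD fun h => hz1 (Subtype.ext (Subtype.ext h))
      refine hnc R hR _ le_rfl fun a ha => mem_centralizer_singleton_iff.mpr ?_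
      have hy' : y ∈ zpowers ((z : ↥(R : Subgroup G)) : G) := hzy ▸ ⟨hR, hyY⟩
      obtain ⟨j, rfl⟩ := mem_zpowers_iff.mp hy'
      exact ((show Commute a ((z : ↥(R : Subgroup G)) : G) from
        congrArg Subtype.val (Subgroup.mem_center_iff.mp z.2 ⟨a, ha⟩)).zpow_right j).eq
    interval_cases i <;> omega
  obtain ⟨R, hyR⟩ := exists_mem_sylow hy
  have hY : Nat.card Y = 18 ∨ Nat.card Y = 36 := by
    have h1 := Subgroup.card_dvd_of_le (inf_le_right : (R : Subgroup G) ⊓ Y ≤ Y)
    have h2 := Subgroup.orderOf_dvd_natCard _ htY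
    rw [hnine R hyR] at h1
    rw [ht] at h2
    obtain ⟨j, hj⟩ := (show Nat.Coprime 9 2 by norm_num).mul_dvd_of_dvd_of_dvd h1 h2
    have hj0 : 0 < j := Nat.pos_of_ne_zero fun h => Nat.card_pos.ne' (by rw [hj, h, mul_zero])
    omega
  have hnorm : ∀ V : Subgroup G, V ≠ ⊥ → V ≠ ⊤ → 9 ≤ (normalizer (V : Set G)).index := by
    intro V hV0 hV1
    refine lt_index_of_not_dvd hG (k := 8) (by rw [hn]; decide) fun h => ?_
    rcases (normalizer_eq_top_iff.mp h).eq_bot_or_eq_top with h' | h'
    · exact hV0 h'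
    · exact hV1 h'
  -- a subgroup normalised by a Sylow `2`-subgroup
  have hV4 : ∀ V : Subgroup G, Nat.card V = 4 → 8 ∣ Nat.card ↥(normalizer (V : Set G)) := by
    intro V hV
    obtain ⟨S, hS⟩ := (IsPGroup.of_card (p := 2) (n := 2) (G := V)
      (by rw [hV]; norm_num)).exists_le_sylow
    have hS8 : Nat.card ↥(S : Subgroup G) = 8 := by
      rw [card_sylow_eq (a := 3) (m := 189) (by rw [hn]; norm_num) (by norm_num) S]; norm_num
    have hnS : (V.subgroupOf (S : Subgroup G)).Normal := by
      refine normal_of_index_eq_two ?_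
      have h := (V.subgroupOf (S : Subgroup G)).card_mul_index
      rw [Nat.card_congr (subgroupOfEquivOfLe hS).toEquiv, hV, hS8] at h
      omega
    rw [← hS8]
    exact Subgroup.card_dvd_of_le ((normal_subgroupOf_iff_le_normalizer hS).mp hnS)
  obtain hn1 | hn1 := eq_or_ne (Nat.card (Sylow 3 Y)) 1
  · -- two Sylow subgroups of `G` through the Sylow subgroup of `C(y)`
    obtain ⟨A₀⟩ := (inferInstance : Nonempty (Sylow 3 Y))
    set A := (A₀ : Subgroup Y).map Y.subtype
    have hAR : ∀ S : Sylow 3 G, y ∈ (S : Subgroup G) → A = (S : Subgroup G) ⊓ Y := by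
      intro S hS
      have hA9 : Nat.card A = 9 := by
        rw [card_map_of_injective (subtype_injective Y)]
        rcases hY with h | h
        · rw [card_sylow_eq (a := 2) (m := 2) (by rw [h]; norm_num) (by norm_num) A₀]; norm_num
        · rw [card_sylow_eq (a := 2) (m := 4) (by rw [h]; norm_num) (by norm_num) A₀]; norm_num
      have hp : IsPGroup 3 ↥((S : Subgroup G).subgroupOf Y) :=
        (S.2.to_le (inf_le_left (b := Y))).of_equiv (by
          exact (subgroupOfEquivOfLe (inf_le_right : (S : Subgroup G) ⊓ Y ≤ Y)).symm.trans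
            (MulEquiv.subgroupCongr (inf_subgroupOf_right _ _)))
      obtain ⟨B, hB⟩ := hp.exists_le_sylow
      have : Subsingleton (Sylow 3 Y) := (Nat.card_eq_one_iff_unique.mp hn1).1
      rw [Subsingleton.elim B A₀] at hB
      refine (eq_of_le_of_card_ge (fun a ha => ?_) (by rw [hnine S hS, hA9])).symm
      exact ⟨⟨a, ha.2⟩, hB ha.1, rfl⟩
    have hy2 : y ∈ ((t • R : Sylow 3 G) : Subgroup G) := by
      rw [Sylow.coe_subgroup_smul, mem_pointwise_smul_iff_inv_smul_mem, ← map_inv, MulAut.smul_def,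
        MulAut.conj_apply, inv_inv, mul_assoc, ← hty.eq, inv_mul_cancel_left]
      exact hyR
    have hAnorm : ∀ S : Sylow 3 G, y ∈ (S : Subgroup G) →
        (S : Subgroup G) ≤ normalizer (A : Set G) := by
      intro S hS
      have hle : A ≤ (S : Subgroup G) := hAR S hS ▸ inf_le_left
      refine (normal_subgroupOf_iff_le_normalizer hle).mp ?_
      refine normal_of_index_eq_minFac_card ?_
      have h := (A.subgroupOf (S : Subgroup G)).card_mul_index
      rw [Nat.card_congr (subgroupOfEquivOfLe hle).toEquiv, hAR S hS, hnine S hS, hR27] at h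
      rw [hR27, show Nat.minFac 27 = 3 by norm_num, hAR S hS]
      omega
    set H := normalizer (A : Set G)
    have hA9 : Nat.card A = 9 := by rw [hAR R hyR]; exact hnine R hyR
    have hRH := hAnorm R hyR
    have hR'H := hAnorm _ hy2
    have h2 : Nat.card (Sylow 3 H) ≠ 1 := by
      intro h1
      have : Subsingleton (Sylow 3 H) := (Nat.card_eq_one_iff_unique.mp h1).1
      exact hmoved R hyR (Sylow.subtype_injective (hP := hR'H) (hQ := hRH)
        (Subsingleton.elim _ _))
    have hH : Nat.card H = 108 := by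
      have h27 := Subgroup.card_dvd_of_le hRH
      rw [hR27] at h27
      obtain ⟨j, hj⟩ := h27
      have hd := Subgroup.card_subgroup_dvd_card H
      rw [hn, hj, show (1512 : ℕ) = 27 * 56 by norm_num] at hd
      have hjd : j ∈ Nat.divisors 56 :=
        Nat.mem_divisors.mpr ⟨(Nat.mul_dvd_mul_iff_left (by norm_num)).mp hd, by norm_num⟩
      have hidx := hnorm A (fun h => by rw [h, card_bot] at hA9; omega)
        (fun h => by rw [h, card_top, hn] at hA9; omega)
      have hm := H.card_mul_index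
      rw [hn, hj] at hm
      change 9 ≤ H.index at hidx
      obtain ⟨hj3, hmod⟩ := card_sylow_mem (G := H) (p := 3) (a := 3) (m := j)
        (by rw [hj]; norm_num) (fun h3 => by
          have h' : (3 : ℕ) ∣ 56 := h3.trans (Nat.dvd_of_mem_divisors hjd)
          norm_num at h')
      have hle := Nat.le_of_dvd (Nat.pos_of_ne_zero fun h => by rw [h] at hjd; simp at hjd) hj3
      have : j ≤ 56 := Nat.divisor_le hjd
      rw [hj]
      by_contra hne
      have hj6 : j ≤ 6 := by
        by_contra h7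
        have : 7 * H.index ≤ j * H.index := Nat.mul_le_mul_right _ (by omega)
        have h' : j * H.index = 56 := by rw [mul_assoc] at hm; omega
        omega
      interval_cases j <;> omega
    have htH : t ∈ H := by
      rw [mem_normalizer_iff]
      have key : ∀ u : G, u ∈ Y → ∀ a ∈ A, u * a * u⁻¹ ∈ A := by
        rintro u hu _ ⟨a, ha, rfl⟩
        exact ⟨⟨u, hu⟩ * a * ⟨u, hu⟩⁻¹,
          (normal_of_card_sylow_eq_one hn1 A₀).conj_mem a ha _, rfl⟩
      intro a
      refine ⟨key t htY a, fun h => ?_⟩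
      have := key _ (inv_mem htY) _ h
      rwa [inv_inv, show t⁻¹ * (t * a * t⁻¹) * t = a by group] at this
    have hyA : y ∈ A := hAR R hyR ▸ ⟨hyR, hyY⟩
    set A' := A.subgroupOf H
    have hA'n : A'.Normal := normal_in_normalizer
    have hA'c : Nat.card A' = 9 := by
      rw [Nat.card_congr (subgroupOfEquivOfLe le_normalizer).toEquiv, hA9]
    obtain ⟨T⟩ := (inferInstance : Nonempty (Sylow 2 H))
    have hc := sylow_two_centralizes hA'c hH h2 (t := ⟨t, htH⟩) (y := ⟨y, le_normalizer hyA⟩)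
      (by rw [Subgroup.orderOf_mk, ht]) hyA
      (fun h => by
        have := congrArg Subtype.val h
        rw [show y = 1 from this, orderOf_one] at hy
        norm_num at hy)
      (Subtype.ext hty.eq) T
    have hTn := sylow_two_normal (b := 2) (by rw [hA'c]; norm_num) (by rw [hH]; norm_num) h2 T hc
    have hT4 : Nat.card ↥(T : Subgroup H) = 4 := by
      rw [card_sylow_eq (a := 2) (m := 27) (by rw [hH]; norm_num) (by norm_num) T]; norm_num
    set V := (T : Subgroup H).map H.subtype
    have hVc : Nat.card V = 4 := by rw [card_map_of_injective (subtype_injective H), hT4]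
    have hHV : H ≤ normalizer (V : Set G) := by
      refine (normal_subgroupOf_iff_le_normalizer (map_subtype_le _)).mp ?_
      rwa [show V.subgroupOf H = (T : Subgroup H) from comap_map_eq_self_of_injective
        (subtype_injective H) _]
    have h108 := Subgroup.card_dvd_of_le hHV
    rw [hH] at h108
    have h216 := Nat.lcm_dvd h108 (hV4 V hVc)
    rw [show Nat.lcm 108 8 = 216 from rfl] at h216
    have hidx := hnorm V (fun h => by rw [h, card_bot] at hVc; omega)
      (fun h => by rw [h, card_top, hn] at hVc; omega)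
    have hm := (normalizer (V : Set G)).card_mul_index
    rw [hn] at hm
    have := Nat.le_of_dvd Nat.card_pos h216
    nlinarith
  · have hY36 : Nat.card Y = 36 := by
      rcases hY with h | h
      · exfalso
        apply hn1
        have h' := card_sylow_mem_list (G := Y) (p := 3) (a := 2) (m := 2)
          (by rw [h]; norm_num) (by norm_num)
        rwa [show (Nat.divisors 2).filter (fun d => d % 3 = 1) = {1} by decide,
          Finset.mem_singleton] at h'
      · exact h
    set Z := zpowers (⟨y, hyY⟩ : Y)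
    have hZc : Nat.card Z = 3 := by rw [Nat.card_zpowers, Subgroup.orderOf_mk, hy]
    have hcen : ∀ c : Y, ∀ k ∈ Z, Commute c k := by
      intro c k hk
      obtain ⟨i, rfl⟩ := mem_zpowers_iff.mp hk
      exact (show Commute c (⟨y, hyY⟩ : Y) from
        Subtype.ext (mem_centralizer_singleton_iff.mp c.2)).zpow_right i
    have hZn : Z.Normal := ⟨fun k hk c => by rwa [(hcen c k hk).eq, mul_inv_cancel_right]⟩
    have hYc : Nat.card Y = 12 * 3 ^ 1 := by rw [hY36]; norm_num
    obtain ⟨T, hTt⟩ := exists_mem_sylow (p := 2) (G := Y) (y := ⟨t, htY⟩)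
      (by rw [Subgroup.orderOf_mk, ht])
    have hTn := sylow_two_normal (b := 1) (by rw [hZc]; norm_num) hYc hn1 T
      fun a _ k hk => hcen a k hk
    have hT4 : Nat.card ↥(T : Subgroup Y) = 4 := by
      rw [card_sylow_eq (a := 2) (m := 9) (by rw [hY36]; norm_num) (by norm_num) T]; norm_num
    -- a Sylow `3`-subgroup of `C(y)` moves `t`
    obtain ⟨u, hu3, hut⟩ : ∃ u : Y, (∃ i, orderOf u = 3 ^ i) ∧ ¬ Commute u (⟨t, htY⟩ : Y) := by
      by_contra hcon
      push Not at hcon
      obtain ⟨B, hB⟩ := (inferInstance : Nonempty (Sylow 3 Y)), trivial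
      obtain ⟨-, h6⟩ := quot_data (b := 1) (by rw [hZc]; norm_num) hYc hn1
      have hQ : Nat.card (Y ⧸ Z) = 12 := by
        have h := Z.card_eq_card_quotient_mul_card_subgroup
        rw [hY36, hZc] at h
        omega
      obtain ⟨q, hq⟩ := exists_prime_orderOf_dvd_card' (G := Y ⧸ Z) 3 (by rw [hQ]; norm_num)
      obtain ⟨S, hS⟩ := exists_mem_sylow hq
      obtain ⟨B, rfl⟩ := Sylow.mapSurjective_surjective (QuotientGroup.mk'_surjective Z) 3 S
      obtain ⟨w, hw, rfl⟩ := hS
      obtain ⟨i, hi⟩ := (B.2 ⟨w, hw⟩)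
      have hwi : ∃ i, orderOf w = 3 ^ i := by
        obtain ⟨j, -, hj⟩ := (Nat.dvd_prime_pow Nat.prime_three).mp
          (orderOf_dvd_of_pow_eq_one (congrArg Subtype.val hi : w ^ 3 ^ i = 1))
        exact ⟨j, hj⟩
      have hc := (hcon w hwi).map (QuotientGroup.mk' Z)
      have ht2 : orderOf (QuotientGroup.mk' Z (⟨t, htY⟩ : Y)) = 2 := by
        refine orderOf_eq_prime ?_ fun h => ?_
        · rw [← map_pow]
          have : (⟨t, htY⟩ : Y) ^ 2 = 1 := Subtype.ext (by
            show t ^ 2 = 1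
            rw [← ht, pow_orderOf_eq_one])
          rw [this, map_one]
        · have := Subgroup.orderOf_dvd_natCard _ ((QuotientGroup.eq_one_iff _).mp h)
          rw [Subgroup.orderOf_mk, ht, hZc] at this
          norm_num at this
      apply h6 (QuotientGroup.mk' Z w * QuotientGroup.mk' Z ⟨t, htY⟩)
      rw [hc.orderOf_mul_eq_mul_orderOf_of_coprime (by rw [hq, ht2]; norm_num), hq, ht2]
    set V := (T : Subgroup Y).map Y.subtype
    have hVc : Nat.card V = 4 := by rw [card_map_of_injective (subtype_injective Y), hT4]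
    have hYV : Y ≤ normalizer (V : Set G) := by
      refine (normal_subgroupOf_iff_le_normalizer (map_subtype_le _)).mp ?_
      rwa [show V.subgroupOf Y = (T : Subgroup Y) from comap_map_eq_self_of_injective
        (subtype_injective Y) _]
    set H := normalizer (V : Set G)
    have h36' := Subgroup.card_dvd_of_le hYV
    rw [hY36] at h36'
    have hH : Nat.card H = 72 := by
      have h72 := Nat.lcm_dvd h36' (hV4 V hVc)
      rw [show Nat.lcm 36 8 = 72 from rfl] at h72
      obtain ⟨j, hj⟩ := h72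
      have hd := Subgroup.card_subgroup_dvd_card H
      rw [hn, hj, show (1512 : ℕ) = 72 * 21 by norm_num] at hd
      have hjd : j ∈ Nat.divisors 21 :=
        Nat.mem_divisors.mpr ⟨(Nat.mul_dvd_mul_iff_left (by norm_num)).mp hd, by norm_num⟩
      have hidx := hnorm V (fun h => by rw [h, card_bot] at hVc; omega)
        (fun h => by rw [h, card_top, hn] at hVc; omega)
      change 9 ≤ H.index at hidx
      have hm := H.card_mul_index
      rw [hn, hj] at hm
      have : j ≤ 21 := Nat.divisor_le hjd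
      rw [hj]
      interval_cases j <;> omega
    -- the centraliser of `V`
    set K := (centralizer (V : Set G)).subgroupOf H
    have hKn : K.Normal := by rw [show K = _ from (normalizerMonoidHom_ker V).symm]; infer_instance
    have hyK : (⟨y, hYV hyY⟩ : H) ∈ K := by
      show y ∈ centralizer (V : Set G)
      rw [mem_centralizer_iff]
      rintro _ ⟨c, hc, rfl⟩
      exact mem_centralizer_singleton_iff.mp c.2
    have hVH : V ≤ H := le_normalizer
    have hVK : V.subgroupOf H ≤ K := by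
      intro a ha
      show (a : G) ∈ centralizer (V : Set G)
      rw [mem_centralizer_iff]
      intro b hb
      exact congrArg Subtype.val ((IsPGroup.isMulCommutative_of_card_eq_prime_sq (p := 2)
        (by rw [hVc]; norm_num : Nat.card V = 2 ^ 2)).is_comm.comm (⟨b, hb⟩ : V) ⟨(a : G), ha⟩)
    have hK12 : 12 ∣ Nat.card K := by
      have h1 := Subgroup.card_dvd_of_le hVK
      rw [Nat.card_congr (subgroupOfEquivOfLe hVH).toEquiv, hVc] at h1
      have h2 := Subgroup.orderOf_dvd_natCard _ hyK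
      rw [Subgroup.orderOf_mk, hy] at h2
      exact (show Nat.Coprime 4 3 by norm_num).mul_dvd_of_dvd_of_dvd h1 h2
    have hK9 : ¬ 9 ∣ Nat.card K := by
      intro h9
      obtain ⟨B₀⟩ := (inferInstance : Nonempty (Sylow 3 K))
      obtain ⟨B, hB⟩ := (B₀.2.map K.subtype).exists_le_sylow
      have hB9 : Nat.card ↥(B : Subgroup H) = 9 := by
        rw [card_sylow_eq (a := 2) (m := 8) (by rw [hH]; norm_num) (by norm_num) B]; norm_num
      have hBK : (B : Subgroup H) ≤ K := by
        have hc : 9 ∣ Nat.card ↥(B₀ : Subgroup K) := by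
          obtain ⟨j, hj⟩ := h9
          have hd := Subgroup.card_subgroup_dvd_card K
          rw [hH, hj] at hd
          have h3j : ¬ 3 ∣ j := fun h3 => by
            obtain ⟨i, rfl⟩ := h3
            have : 27 ∣ 72 := Dvd.dvd.trans ⟨i, by ring⟩ hd
            norm_num at this
          rw [card_sylow_eq (a := 2) (m := j) (by rw [hj]; norm_num) h3j B₀]
          norm_num
        have he : (B₀ : Subgroup K).map K.subtype = (B : Subgroup H) :=
          eq_of_le_of_card_ge hB (by
            rw [card_map_of_injective (subtype_injective K), hB9]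
            exact Nat.le_of_dvd Nat.card_pos hc)
        exact he ▸ map_subtype_le _
      -- then `u` centralises `t`
      obtain ⟨i, hui⟩ := hu3
      have huH : ((u : G)) ∈ H := hYV u.2
      obtain ⟨S, hS⟩ := (IsPGroup.of_card (p := 3) (G := zpowers (⟨u, huH⟩ : H)) (n := i)
        (by rw [Nat.card_zpowers, Subgroup.orderOf_mk, Subgroup.orderOf_coe, hui])).exists_le_sylow
      obtain ⟨g, hg⟩ := MulAction.exists_smul_eq H B S
      have huK : (⟨u, huH⟩ : H) ∈ K := by
        have := hS (mem_zpowers _)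
        rw [← hg, Sylow.coe_subgroup_smul, mem_pointwise_smul_iff_inv_smul_mem, ← map_inv,
          MulAut.smul_def, MulAut.conj_apply, inv_inv] at this
        have h := hKn.conj_mem _ (hBK this) g
        rwa [show g * (g⁻¹ * ⟨u, huH⟩ * g) * g⁻¹ = ⟨u, huH⟩ by group] at h
      apply hut
      exact Subtype.ext (mem_centralizer_iff.mp (show (u : G) ∈ centralizer (V : Set G) from huK) t
        ⟨⟨t, htY⟩, hTt, rfl⟩).symm
    have hKdvd := Subgroup.card_subgroup_dvd_card K
    rw [hH] at hKdvd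
    have hK : Nat.card K = 12 ∨ Nat.card K = 24 := by
      obtain ⟨j, hj⟩ := hK12
      rw [hj, show (72 : ℕ) = 12 * 6 by norm_num] at hKdvd
      have hjd : j ∈ Nat.divisors 6 :=
        Nat.mem_divisors.mpr ⟨(Nat.mul_dvd_mul_iff_left (by norm_num)).mp hKdvd, by norm_num⟩
      have : j ≤ 6 := Nat.divisor_le hjd
      rw [hj] at hK9 ⊢
      interval_cases j <;> omega
    -- so `⟨y⟩` is characteristic in it
    set yK : K := ⟨⟨y, hYV hyY⟩, hyK⟩
    obtain ⟨B, hB⟩ := exists_mem_sylow (p := 3) (G := K) (y := yK)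
      (by rw [Subgroup.orderOf_mk, Subgroup.orderOf_mk, hy])
    have hB3 : Nat.card ↥(B : Subgroup K) = 3 := by
      rcases hK with h | h
      · rw [card_sylow_eq (a := 1) (m := 4) (by rw [h]; norm_num) (by norm_num) B]; norm_num
      · rw [card_sylow_eq (a := 1) (m := 8) (by rw [h]; norm_num) (by norm_num) B]; norm_num
    have hBy : zpowers yK = (B : Subgroup K) :=
      zpowers_eq_of_card_prime hB3 hB fun h => by
        have := congrArg (fun a : K => ((a : H) : G)) h
        rw [show y = 1 from this, orderOf_one] at hy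
        norm_num at hy
    have hone : Nat.card (Sylow 3 K) = 1 := by
      set NB := normalizer ((B : Subgroup K) : Set K)
      have hle : (V.subgroupOf H).subgroupOf K ≤ NB := by
        intro a ha
        rw [mem_normalizer_iff]
        intro b
        have hc : Commute a yK := Subtype.ext (Subtype.ext
          (mem_centralizer_iff.mp (show y ∈ centralizer (V : Set G) from hyK) _ ha))
        constructor
        · intro hb
          rw [← hBy] at hb ⊢
          obtain ⟨i, rfl⟩ := mem_zpowers_iff.mp hb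
          rw [(hc.zpow_right i).eq, mul_inv_cancel_right]
          exact zpow_mem (mem_zpowers _) i
        · intro hb
          rw [← hBy] at hb ⊢
          obtain ⟨i, hi⟩ := mem_zpowers_iff.mp hb
          have : b = a⁻¹ * yK ^ i * a := by rw [hi]; group
          rw [this, (hc.inv_left.zpow_right i).eq, inv_mul_cancel_right]
          exact zpow_mem (mem_zpowers _) i
      have h4 := Subgroup.card_dvd_of_le hle
      rw [Nat.card_congr (subgroupOfEquivOfLe hVK).toEquiv,
        Nat.card_congr (subgroupOfEquivOfLe hVH).toEquiv, hVc] at h4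
      have h3 := Subgroup.card_dvd_of_le (le_normalizer (H := (B : Subgroup K)))
      rw [hB3] at h3
      have h12 := (show Nat.Coprime 4 3 by norm_num).mul_dvd_of_dvd_of_dvd h4 h3
      have hmul := Nat.mul_dvd_mul_right h12 (Nat.card (Sylow 3 K))
      rw [card_normalizer_mul] at hmul
      have hmod := card_sylow_modEq_one 3 K
      unfold Nat.ModEq at hmod
      have hle2 := Nat.le_of_dvd Nat.card_pos hmul
      rcases hK with h | h <;> rw [h] at hle2 <;> omega
    have : Subsingleton (Sylow 3 K) := (Nat.card_eq_one_iff_unique.mp hone).1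
    obtain ⟨g, hgH, hgY⟩ : ∃ g ∈ H, g ∉ Y := by
      by_contra hcon
      push Not at hcon
      have h := Subgroup.card_dvd_of_le (show H ≤ Y from hcon)
      rw [hH, hY36] at h
      norm_num at h
    set gy : K := ⟨⟨g, hgH⟩ * ⟨y, hYV hyY⟩ * ⟨g, hgH⟩⁻¹, hKn.conj_mem _ hyK _⟩
    have hgo : orderOf gy = 3 := by
      rw [Subgroup.orderOf_mk, ← MulAut.conj_apply, MulEquiv.orderOf_eq, Subgroup.orderOf_mk, hy]
    obtain ⟨S, hS⟩ := exists_mem_sylow hgo
    rw [Subsingleton.elim S B, ← hBy] at hS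
    obtain ⟨i, hi⟩ := mem_zpowers_iff.mp hS
    have hiy : y ^ i = g * y * g⁻¹ := by
      have := congrArg (fun a : K => ((a : H) : G)) hi
      simp only [yK, gy, Subgroup.coe_zpow, Subgroup.coe_mul, Subgroup.coe_inv] at this
      exact this
    have hi3 : i % 3 = 0 ∨ i % 3 = 1 ∨ i % 3 = 2 := by omega
    have hred : y ^ i = y ^ (i % 3) := by
      rw [show (3 : ℤ) = ((3 : ℕ) : ℤ) from rfl, ← hy]
      exact (zpow_mod_orderOf y i).symm
    rw [hred] at hiy
    rcases hi3 with h | h | h <;> rw [h] at hiy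
    · have : g * y * g⁻¹ = 1 := by rw [← hiy, zpow_zero]
      have hy1 : y = 1 := by simpa using this
      rw [hy1, orderOf_one] at hy
      norm_num at hy
    · rw [zpow_one] at hiy
      exact hgY (mem_centralizer_singleton_iff.mpr (mul_inv_eq_iff_eq_mul.mp hiy.symm))
    · have h2 : y ^ (2 : ℤ) = y⁻¹ := by
        refine eq_inv_of_mul_eq_one_left ?_
        rw [← zpow_add_one, show (2 : ℤ) + 1 = ((3 : ℕ) : ℤ) from rfl, zpow_natCast, ← hy,
          pow_orderOf_eq_one]
      have := h18 (isConj_iff.mpr ⟨g, by rw [← hiy, h2]⟩)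
      omega

end Cfsg.Agent.SmallS16.GapA
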