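import Cfsg.Agent.SmallS16.GapA.Tools
import Cfsg.Agent.SmallS16.GapA.Easy
import Cfsg.Agent.Lib.SmallGroups.Orbits
import Cfsg.Agent.Lib.SmallGroups.Few.Main
import Cfsg.Agent.Lib.BlocksCore.CyclicCount
import Cfsg.Agent.ZStar.Main
import Cfsg.Agent.S0215

set_option autoImplicit false

/-!
# The orders 1980, 3120 and 1680
-/

namespace Cfsg.Agent.SmallS16.GapA

open Subgroup MulAction SmallGroups
open SO89 (sylow_mem shape_eq cross_normalizer fixed_add_eq mem_of_fixed_one isConj_involutions
  exists_generator)

variable {G : Type*} [Group G] [Finite G] [IsSimpleGroup G]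

theorem not_1980 (hG : ¬ IsMulCommutative G) : Nat.card G ≠ 1980 := by
  intro hn
  have : Fact (Nat.Prime 2) := ⟨Nat.prime_two⟩
  have : Fact (Nat.Prime 3) := ⟨by norm_num⟩
  have : Fact (Nat.Prime 5) := ⟨by norm_num⟩
  have : Fact (Nat.Prime 11) := ⟨by norm_num⟩
  have h11 := sylow_mem hG (q := 11) (a := 1) (m := 180) (by rw [hn]; norm_num) (by norm_num)
    (by norm_num) (by norm_num) [45] (by decide +kernel)
  have h5 := sylow_mem hG (q := 5) (a := 1) (m := 396) (by rw [hn]; norm_num) (by norm_num)
    (by norm_num) (by norm_num) [66] (by decide +kernel)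
  have hQ3 : ∀ S : Sylow 3 G, Nat.card ↥(S : Subgroup G) = 3 ^ 2 := fun S =>
    card_sylow_eq (a := 2) (m := 220) (by rw [hn]; norm_num) (by norm_num) S
  have h4 : ∀ T : Sylow 2 G, Nat.card ↥(T : Subgroup G) = 4 := fun T => by
    rw [card_sylow_eq (a := 2) (m := 495) (by rw [hn]; norm_num) (by norm_num) T]; norm_num
  obtain ⟨P⟩ := (inferInstance : Nonempty (Sylow 11 G))
  obtain ⟨hP, hN, e, he, he2, heN, -, hC, -⟩ := shape_eq hG (q := 11) (m := 180) (N := 44)
    (by rw [hn]; norm_num) (by norm_num) (List.mem_singleton.mp h11) (by norm_num) P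
  have he' : e = 2 := by
    have : e ≤ 10 := Nat.divisor_le he
    interval_cases e <;> revert he heN <;> decide
  subst he'
  obtain ⟨t, ht⟩ := exists_prime_orderOf_dvd_card'
    (G := centralizer ((P : Subgroup G) : Set G)) 2 (by rw [hC]; norm_num)
  rw [← Subgroup.orderOf_coe] at ht
  have hf := fixed_add_eq hG (r := 2) (by norm_num) P hP ht t.2
    (by rw [List.mem_singleton.mp h11]; decide)
  rw [List.mem_singleton.mp h11, show Classification.movedBlock 2 = 4 from rfl] at hf
  have hle : centralizer ({(t : G)} : Set G) ≤ normalizer ((P : Subgroup G) : Set G) := by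
    intro g hg
    refine mem_of_fixed_one P (centralizer_le_normalizer _ t.2) (by omega) ?_
    rw [mem_centralizer_singleton_iff.mp hg, mul_inv_cancel_right]
    exact centralizer_le_normalizer _ t.2
  have h3 : ∀ u : G, orderOf u = 2 → ¬ 3 ∣ Nat.card ↥(centralizer ({u} : Set G)) := by
    intro u hu h
    have hd := Subgroup.card_dvd_of_le hle
    rw [hN] at hd
    have hc : Nat.card {g : G // IsConj (t : G) g} = Nat.card {g : G // IsConj u g} :=
      Nat.card_congr (Equiv.subtypeEquivRight fun g =>
        ⟨fun h => (isConj_involutions hG h4 hu ht).trans h,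
          fun h => (isConj_involutions hG h4 ht hu).trans h⟩)
    have h1 := card_conj_mul_centralizer (G := G) (t : G)
    rw [← card_conj_mul_centralizer (G := G) u, hc] at h1
    rw [← Nat.eq_of_mul_eq_mul_left (SO89.card_conj_pos u) h1] at h
    have := h.trans hd
    norm_num at this
  obtain ⟨Q⟩ := (inferInstance : Nonempty (Sylow 5 G))
  obtain ⟨hQ, hNQ, e, he, he2, heN, -, hCQ, -⟩ := shape_eq hG (q := 5) (m := 396) (N := 30)
    (by rw [hn]; norm_num) (by norm_num) (List.mem_singleton.mp h5) (by norm_num) Q
  have he' : e = 2 := by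
    have : e ≤ 4 := Nat.divisor_le he
    interval_cases e <;> revert he heN <;> decide
  subst he'
  obtain ⟨z, hz⟩ := exists_prime_orderOf_dvd_card'
    (G := centralizer ((Q : Subgroup G) : Set G)) 3 (by rw [hCQ]; norm_num)
  rw [← Subgroup.orderOf_coe] at hz
  set H := centralizer ({(z : G)} : Set G)
  have hQH : (Q : Subgroup G) ≤ H := fun a ha =>
    mem_centralizer_singleton_iff.mpr (mem_centralizer_iff.mp z.2 a ha)
  obtain ⟨R, hzR⟩ := exists_mem_sylow hz
  have hRH : (R : Subgroup G) ≤ H := fun a ha =>
    mem_centralizer_singleton_iff.mpr (SO89.comm_of_mem_sylow hQ3 R ha hzR)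
  have h45 : 45 ∣ Nat.card H := by
    have h5' := Subgroup.card_dvd_of_le hQH
    have h9 := Subgroup.card_dvd_of_le hRH
    rw [hQ] at h5'
    rw [hQ3] at h9
    exact (show Nat.Coprime 5 (3 ^ 2) by norm_num).mul_dvd_of_dvd_of_dvd h5' h9
  have hodd : ¬ 2 ∣ Nat.card H := by
    intro h2
    obtain ⟨u, hu⟩ := exists_prime_orderOf_dvd_card' (G := H) 2 h2
    rw [← Subgroup.orderOf_coe] at hu
    refine h3 u hu ?_
    rw [← hz]
    exact Subgroup.orderOf_dvd_natCard _
      (mem_centralizer_singleton_iff.mpr (mem_centralizer_singleton_iff.mp u.2).symm)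
  have hH : H ≠ ⊤ := fun h => hodd (by rw [h, card_top, hn]; norm_num)
  have hcard : Nat.card H = 45 := by
    obtain ⟨j, hj⟩ := h45
    have hd := Subgroup.card_subgroup_dvd_card H
    rw [hn, hj, show (1980 : ℕ) = 45 * 44 by norm_num] at hd
    have hd' : j ∈ Nat.divisors 44 :=
      Nat.mem_divisors.mpr ⟨(Nat.mul_dvd_mul_iff_left (by norm_num)).mp hd, by norm_num⟩
    have hidx := lt_index_of_not_dvd hG (k := 5) (by rw [hn]; decide) hH
    have hm := H.card_mul_index
    rw [hn, hj] at hm
    rw [hj] at hodd ⊢
    have : j ≤ 44 := Nat.divisor_le hd'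
    interval_cases j <;> first | omega | exact absurd hd' (by decide)
  have hone : Nat.card (Sylow 5 H) = 1 := by
    have h := card_sylow_mem_list (G := H) (p := 5) (a := 1) (m := 9)
      (by rw [hcard]; norm_num) (by norm_num)
    rwa [show (Nat.divisors 9).filter (fun d => d % 5 = 1) = {1} by decide,
      Finset.mem_singleton] at h
  have hn5 := (normal_subgroupOf_iff_le_normalizer hQH).mp
    (normal_of_card_sylow_eq_one hone (Q.subtype hQH))
  have hd := Subgroup.card_dvd_of_le hn5
  rw [hcard, hNQ] at hd
  norm_num at hd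

theorem not_3120 (hG : ¬ IsMulCommutative G) : Nat.card G ≠ 3120 := by
  intro hn
  classical
  have : Fact (Nat.Prime 2) := ⟨Nat.prime_two⟩
  have : Fact (Nat.Prime 3) := ⟨by norm_num⟩
  have : Fact (Nat.Prime 13) := ⟨by norm_num⟩
  have h13 := sylow_mem hG (q := 13) (a := 1) (m := 240) (by rw [hn]; norm_num) (by norm_num)
    (by norm_num) (by norm_num) [40] (by decide +kernel)
  have h40 := List.mem_singleton.mp h13
  obtain ⟨P⟩ := (inferInstance : Nonempty (Sylow 13 G))
  obtain ⟨hP, hN, e, he, he2, heN, heq, hC, -⟩ := shape_eq hG (q := 13) (m := 240) (N := 78)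
    (by rw [hn]; norm_num) (by norm_num) h40 (by norm_num) P
  have he' : e = 2 ∨ e = 3 ∨ e = 6 := by
    have : e ≤ 12 := Nat.divisor_le he
    interval_cases e <;> revert he heN heq <;> decide
  obtain ⟨x, hx, hx1, hxo, hxP⟩ := exists_generator hP
  rcases he' with rfl | rfl | rfl
  · -- `C(P)` of order `39` is regular on the other thirty-nine points
    set N := normalizer ((P : Subgroup G) : Set G)
    set C := centralizer ((P : Subgroup G) : Set G)
    have hCN : C ≤ N := centralizer_le_normalizer _
    obtain ⟨s, hs⟩ := exists_prime_orderOf_dvd_card' (G := N) 2 (by rw [hN]; norm_num)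
    rw [← Subgroup.orderOf_coe] at hs
    have hsC : (s : G) ∉ C := fun h => by
      have := Subgroup.orderOf_dvd_natCard _ h
      rw [hs, hC] at this
      norm_num at this
    have hbase : ∀ c ∈ C, c ≠ 1 → fixedBy (G ⧸ N) c ⊆ {((1 : G) : G ⧸ N)} := by
      intro c hc hc1 a ha
      by_cases h3 : c ^ 3 = 1
      · have hco : orderOf c = 3 := orderOf_eq_prime h3 hc1
        have hf := fixed_add_eq hG (r := 3) (by norm_num) P hP hco hc (by rw [h40]; decide)
        rw [h40, show Classification.movedBlock 3 = 3 from rfl] at hf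
        have h1 : ((1 : G) : G ⧸ N) ∈ fixedBy (G ⧸ N) c :=
          (mk_mem_fixedBy_iff N c 1).mpr (by rw [inv_one, one_mul, mul_one]; exact hCN hc)
        have hsub := (Nat.card_eq_one_iff_unique.mp
          (show Nat.card (fixedBy (G ⧸ normalizer ((P : Subgroup G) : Set G)) c) = 1 by omega)).1
        exact congrArg Subtype.val (hsub.elim ⟨a, ha⟩ ⟨_, h1⟩)
      · have hfix : fixedBy (G ⧸ N) (c ^ 3) = {((1 : G) : G ⧸ N)} := by
          refine fixedBy_eq_base P hP ?_ h3
          have h39 : (c ^ 3) ^ 13 = 1 := by
            rw [← pow_mul]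
            have := orderOf_dvd_iff_pow_eq_one.mp (Subgroup.orderOf_dvd_natCard _ hc)
            rwa [hC] at this
          have ho : orderOf (c ^ 3) = 13 := orderOf_eq_prime h39 h3
          have h1 : zpowers (c ^ 3) ≤ N := zpowers_le.mpr (hCN (pow_mem hc 3))
          have hpg : IsPGroup 13 (zpowers (c ^ 3)) :=
            IsPGroup.of_card (n := 1) (by rw [Nat.card_zpowers, ho, pow_one])
          have h2 := hpg.inf_normalizer_sylow P
          exact ((le_inf le_rfl h1).trans (h2.le.trans inf_le_right)) (mem_zpowers _)
        rw [← hfix]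
        have h3a := mem_fixedBy_zpow ha 3
        rwa [zpow_ofNat] at h3a
    obtain ⟨f, hf1, hf2, hf4⟩ : ∃ f, 1 ≤ f ∧ f ≤ 2 ∧ 4 ∣ 40 - f := by
      refine ⟨Nat.card (fixedBy (G ⧸ N) (s : G)), ?_, ?_, ?_⟩
      · have : Nonempty (fixedBy (G ⧸ N) (s : G)) :=
          ⟨⟨((1 : G) : G ⧸ N), (mk_mem_fixedBy_iff N _ 1).mpr (by simpa using s.2)⟩⟩
        exact Nat.card_pos
      · by_contra hgt
        have := Fintype.ofFinite (G ⧸ N)
        set F := (Finset.univ.filter fun a : G ⧸ N => (s : G) • a = a).erase ((1 : G) : G ⧸ N)
          with hFdef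
        have hFc : 1 < F.card := by
          have h1 : (Finset.univ.filter fun a : G ⧸ N => (s : G) • a = a).card =
              Nat.card (fixedBy (G ⧸ N) (s : G)) := by
            rw [← Fintype.card_subtype, ← Nat.card_eq_fintype_card]
            exact Nat.card_congr (Equiv.subtypeEquivRight fun _ => Iff.rfl)
          have := Finset.pred_card_le_card_erase
            (s := Finset.univ.filter fun a : G ⧸ N => (s : G) • a = a) (a := ((1 : G) : G ⧸ N))
          rw [← hFdef] at this
          omega
        obtain ⟨a, ha, b, hb, hab⟩ := Finset.one_lt_card.mp hFc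
        simp only [hFdef, Finset.mem_erase, Finset.mem_filter, Finset.mem_univ, true_and] at ha hb
        -- `C` is transitive off the base point
        have hbij : Function.Bijective (fun c : C => (⟨(c : G) • a, fun h => ha.1 (by
            rw [← inv_smul_smul (c : G) a, h, MulAction.Quotient.smul_mk, QuotientGroup.eq,
              smul_eq_mul, mul_one, mul_one]
            exact inv_mem (inv_mem (hCN c.2)))⟩ : {q : G ⧸ N // q ≠ ((1 : G) : G ⧸ N)})) := by
          refine (Nat.bijective_iff_injective_and_card _).mpr ⟨fun c d h => ?_, ?_⟩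
          · have h' : (c : G) • a = (d : G) • a := congrArg Subtype.val h
            by_contra hcd
            refine ha.1 (hbase _ (mul_mem (inv_mem d.2) c.2) (fun h1 => hcd (Subtype.ext
              (inv_mul_eq_one.mp h1).symm)) ?_)
            rw [mem_fixedBy, mul_smul, h', inv_smul_smul]
          · rw [hC, Nat.card_eq_fintype_card, Fintype.card_subtype_compl, Fintype.card_subtype_eq,
              ← Nat.card_eq_fintype_card,
              show Nat.card (G ⧸ N) = 40 from P.card_eq_card_quotient_normalizer.symm.trans h40]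
        obtain ⟨⟨c, hc⟩, hcb⟩ := hbij.2 ⟨b, hb.1⟩
        have hcb' : c • a = b := congrArg Subtype.val hcb
        have hc1 : c ≠ 1 := fun h => hab (by rw [← hcb', h, one_smul])
        -- `s` centralises `c`
        have hsc : (s : G) * c * (s : G)⁻¹ = c := by
          have hm : (s : G) * c * (s : G)⁻¹ ∈ C := by
            rw [mem_centralizer_iff]
            intro u hu
            have hu' : (s : G)⁻¹ * u * s ∈ (P : Subgroup G) := by
              have := (mem_normalizer_iff.mp (inv_mem s.2) u).mp hu
              rwa [inv_inv] at this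
            have := mem_centralizer_iff.mp hc _ hu'
            calc u * ((s : G) * c * (s : G)⁻¹) = s * ((s : G)⁻¹ * u * s * c) * (s : G)⁻¹ := by group
              _ = s * (c * ((s : G)⁻¹ * u * s)) * (s : G)⁻¹ := by rw [this]
              _ = _ := by group
          have h1 : ((s : G) * c * (s : G)⁻¹) • a = c • a := by
            rw [mul_smul, mul_smul, show (s : G)⁻¹ • a = a from inv_smul_eq_iff.mpr ha.2.symm,
              hcb', hb.2]
          by_contra hne
          refine ha.1 (hbase _ (mul_mem (inv_mem hc) hm) (fun h2 => hne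
            (inv_mul_eq_one.mp h2).symm) ?_)
          rw [mem_fixedBy, mul_smul, h1, inv_smul_smul]
        have hcomm : Commute (s : G) c := mul_inv_eq_iff_eq_mul.mp hsc
        have hcC : (s : G) ∈ centralizer ({c} : Set G) := mem_centralizer_singleton_iff.mpr hcomm
        -- so `c` has order three
        have hc13 : c ∉ (P : Subgroup G) := by
          intro hcP
          apply hsC
          rw [mem_centralizer_iff]
          intro u hu
          rw [SetLike.mem_coe, ← zpowers_eq_of_card_prime hP hcP hc1] at hu
          obtain ⟨i, rfl⟩ := mem_zpowers_iff.mp hu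
          exact (hcomm.zpow_right i).eq.symm
        have hc3 : c ^ 3 = 1 := by
          by_contra h3
          have hcc : Commute (c ^ 3) (s : G) := (hcomm.symm.pow_left 3)
          have h39 : (c ^ 3) ^ 13 = 1 := by
            rw [← pow_mul]
            have := orderOf_dvd_iff_pow_eq_one.mp (Subgroup.orderOf_dvd_natCard _ hc)
            rwa [hC] at this
          have hpg : IsPGroup 13 (zpowers (c ^ 3)) :=
            IsPGroup.of_card (n := 1) (by rw [Nat.card_zpowers, orderOf_eq_prime h39 h3, pow_one])
          have h2 := hpg.inf_normalizer_sylow P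
          have hcP : c ^ 3 ∈ (P : Subgroup G) :=
            ((le_inf le_rfl (zpowers_le.mpr (hCN (pow_mem hc 3)))).trans
              (h2.le.trans inf_le_right)) (mem_zpowers _)
          apply hsC
          rw [mem_centralizer_iff]
          intro u hu
          rw [SetLike.mem_coe, ← zpowers_eq_of_card_prime hP hcP h3] at hu
          obtain ⟨i, rfl⟩ := mem_zpowers_iff.mp hu
          exact (hcc.zpow_left i).eq
        have hR : ∀ R : Sylow 3 G, Nat.card ↥(R : Subgroup G) = 3 := fun R =>
          (card_sylow_eq (a := 1) (m := 1040) (by rw [hn]; norm_num) (by norm_num) R).trans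
            (pow_one 3)
        have hco : orderOf c = 3 := orderOf_eq_prime hc3 hc1
        obtain ⟨R, hcR⟩ := exists_mem_sylow hco
        have hxC : x ∈ centralizer ((R : Subgroup G) : Set G) ∧
            (s : G) ∈ centralizer ((R : Subgroup G) : Set G) := by
          constructor <;>
          · rw [mem_centralizer_iff]
            intro u hu
            rw [SetLike.mem_coe, ← zpowers_eq_of_card_prime (hR R) hcR hc1] at hu
            obtain ⟨i, rfl⟩ := mem_zpowers_iff.mp hu
            first
            | exact (hcomm.zpow_right i).eq.symm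
            | exact ((show Commute c x from (mem_centralizer_iff.mp hc x hx).symm).zpow_left i).eq
        have hd13 := Subgroup.orderOf_dvd_natCard _ hxC.1
        have hd2 := Subgroup.orderOf_dvd_natCard _ hxC.2
        rw [hxo] at hd13
        rw [hs] at hd2
        have hd26 := (show Nat.Coprime 13 2 by norm_num).mul_dvd_of_dvd_of_dvd hd13 hd2
        have h3 := sylow_mem hG (q := 3) (a := 1) (m := 1040) (by rw [hn]; norm_num) (by norm_num)
          (by norm_num) (by norm_num) [40, 52, 130, 520] (by decide +kernel)
        obtain ⟨-, -, e', he', he2', -, -, hCR, -⟩ := shape_eq hG (q := 3) (m := 1040)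
          (N := 3120 / Nat.card (Sylow 3 G)) (by rw [hn]; norm_num) (by norm_num) rfl
          (by
            simp only [List.mem_cons, List.not_mem_nil, or_false] at h3
            rcases h3 with h | h | h | h <;> rw [h] <;> norm_num) R
        obtain rfl : e' = 2 := by have : e' ≤ 2 := Nat.divisor_le he'; omega
        simp only [List.mem_cons, List.not_mem_nil, or_false] at h3
        rw [hCR] at hd26
        rcases h3 with h | h | h | h <;> rw [h] at hd26 <;> norm_num at hd26
      · rw [← h40, P.card_eq_card_quotient_normalizer]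
        exact four_dvd_moved hG (by rw [← hs, pow_orderOf_eq_one])
    omega
  · have h := card_centralizer_dvd hG P hP (by norm_num) (n := 3) (by rw [h40])
    rw [hC, nat_card_alternatingGroup, Nat.card_eq_fintype_card, Fintype.card_fin] at h
    norm_num [Nat.factorial] at h
  · -- a self-centralising Sylow subgroup with three orbits
    have := Fintype.ofFinite G
    have hidx : ¬ 13 ∣ (zpowers x).index := by rw [hxP]; exact P.not_dvd_index
    obtain ⟨s, hsz⟩ := BlocksCore.CyclicCount.exists_setup hxo hidx
    subst hsz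
    have hK : s.K = ⊥ := by
      refine card_eq_one.mp (Nat.eq_of_mul_eq_mul_left (show 0 < 13 by norm_num) ?_)
      rw [← s.card_cent, mul_one, show centralizer ({s.z} : Set G) =
        centralizer ((P : Subgroup G) : Set G) by rw [← hxP, zpowers_eq_closure, centralizer_closure],
        hC]
    have haut : Nat.card s.auto = 6 := by
      have h := s.card_normalizer
      rw [hxP, hN, hK, card_bot] at h
      norm_num at h
      rw [Nat.card_eq_fintype_card]
      omega
    rcases Few.classify hG s hK (by norm_num) (n := 3) (by norm_num) (by norm_num)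
      (by rw [hn, haut]) with ⟨F, _, _, hF, ⟨φ⟩⟩ | ⟨k, F, _, _, hF, hpk, -⟩
    · have h := card_psl hF φ
      rw [hn] at h
      norm_num at h
    · have hk : k < 4 := by
        by_contra hk
        have := Nat.pow_le_pow_right (show 1 ≤ 2 by norm_num) (not_lt.mp hk)
        omega
      interval_cases k <;> omega

theorem not_1680 (hG : ¬ IsMulCommutative G) : Nat.card G ≠ 1680 := by
  intro hn
  have : Fact (Nat.Prime 2) := ⟨Nat.prime_two⟩
  have : Fact (Nat.Prime 3) := ⟨by norm_num⟩
  have : Fact (Nat.Prime 5) := ⟨by norm_num⟩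
  have h5 := sylow_mem hG (q := 5) (a := 1) (m := 336) (by rw [hn]; norm_num) (by norm_num)
    (by norm_num) (by norm_num) [21, 56] (by decide +kernel)
  have h3 := sylow_mem hG (q := 3) (a := 1) (m := 560) (by rw [hn]; norm_num) (by norm_num)
    (by norm_num) (by norm_num) [28, 40, 70, 280] (by decide +kernel)
  have hS3 : ∀ R : Sylow 3 G, Nat.card ↥(R : Subgroup G) = 3 := fun R =>
    (card_sylow_eq (a := 1) (m := 560) (by rw [hn]; norm_num) (by norm_num) R).trans (pow_one 3)
  have hS5 : ∀ R : Sylow 5 G, Nat.card ↥(R : Subgroup G) = 5 := fun R =>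
    (card_sylow_eq (a := 1) (m := 336) (by rw [hn]; norm_num) (by norm_num) R).trans (pow_one 5)
  obtain ⟨P⟩ := (inferInstance : Nonempty (Sylow 5 G))
  simp only [List.mem_cons, List.not_mem_nil, or_false] at h5 h3
  rcases h5 with h5 | h5
  · obtain ⟨hP, hN, e, he, he2, heN, -, hC, -⟩ := shape_eq hG (q := 5) (m := 336) (N := 80)
      (by rw [hn]; norm_num) (by norm_num) h5 (by norm_num) P
    have he' : e = 4 := by
      have h := card_centralizer_dvd hG P hP (by norm_num) (n := 4) (by rw [h5])
      rw [hC, nat_card_alternatingGroup, Nat.card_eq_fintype_card, Fintype.card_fin] at h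
      norm_num [Nat.factorial] at h
      have : e ≤ 4 := Nat.divisor_le he
      interval_cases e <;> revert he heN h <;> decide
    subst he'
    set N := normalizer ((P : Subgroup G) : Set G)
    set C := centralizer ((P : Subgroup G) : Set G)
    have hCN : C ≤ N := centralizer_le_normalizer _
    -- the Sylow `2`-subgroup of `C` is normal in `N`
    obtain ⟨U⟩ := (inferInstance : Nonempty (Sylow 2 C))
    have hU : Nat.card ↥(U : Subgroup C) = 4 := by
      rw [card_sylow_eq (a := 2) (m := 5) (by rw [hC]; norm_num) (by norm_num) U]; norm_num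
    have hUn : Subsingleton (Sylow 2 C) := by
      have hle : (P : Subgroup G).subgroupOf C ≤ normalizer ((U : Subgroup C) : Set C) := by
        intro a ha
        rw [mem_normalizer_iff]
        intro b
        have : a * b * a⁻¹ = b := by
          rw [mul_inv_eq_iff_eq_mul]
          exact Subtype.ext (mem_centralizer_iff.mp b.2 (a : G) ha)
        rw [this]
      have h1 := Subgroup.card_dvd_of_le hle
      have h2 := Subgroup.card_dvd_of_le (le_normalizer (H := (U : Subgroup C)))
      rw [Nat.card_congr (subgroupOfEquivOfLe (le_centralizer_self hP)).toEquiv, hP] at h1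
      rw [hU] at h2
      have h3 := Nat.mul_dvd_mul_right
        ((show Nat.Coprime 5 4 by norm_num).mul_dvd_of_dvd_of_dvd h1 h2) (Nat.card (Sylow 2 C))
      rw [card_normalizer_mul, hC] at h3
      refine (Nat.card_eq_one_iff_unique.mp (Nat.dvd_one.mp ?_)).1
      exact (Nat.mul_dvd_mul_iff_left (show 0 < 20 by norm_num)).mp (by simpa using h3)
    set U' := (U : Subgroup C).map C.subtype
    have hU'c : Nat.card U' = 4 := by rw [card_map_of_injective (subtype_injective C), hU]
    have hU'n : ∀ g ∈ N, ∀ u ∈ U', g * u * g⁻¹ ∈ U' := by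
      rintro g hg _ ⟨u, hu, rfl⟩
      have hm : g * (u : G) * g⁻¹ ∈ C := by
        rw [mem_centralizer_iff]
        intro a ha
        have ha' : g⁻¹ * a * g ∈ (P : Subgroup G) := by
          have := (mem_normalizer_iff.mp (inv_mem hg) a).mp ha
          rwa [inv_inv] at this
        have := mem_centralizer_iff.mp u.2 _ ha'
        calc a * (g * (u : G) * g⁻¹) = g * (g⁻¹ * a * g * u) * g⁻¹ := by group
          _ = g * ((u : G) * (g⁻¹ * a * g)) * g⁻¹ := by rw [this]
          _ = _ := by group
      refine ⟨⟨_, hm⟩, ?_, rfl⟩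
      obtain ⟨i, hi⟩ : ∃ i : ℕ, orderOf (⟨_, hm⟩ : C) = 2 ^ i := by
        have hd := Subgroup.orderOf_dvd_natCard _ hu
        rw [hU] at hd
        obtain ⟨i, -, hi⟩ := (Nat.dvd_prime_pow Nat.prime_two (m := 2)).mp hd
        refine ⟨i, ?_⟩
        rw [Subgroup.orderOf_mk, ← MulAut.conj_apply, MulEquiv.orderOf_eq, Subgroup.orderOf_coe]
        exact hi
      obtain ⟨S, hS⟩ := (IsPGroup.of_card (p := 2) (G := zpowers (⟨_, hm⟩ : C)) (n := i)
        (by rw [Nat.card_zpowers, hi])).exists_le_sylow
      have := hS (mem_zpowers _)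
      rwa [Subsingleton.elim S U] at this
    -- an involution of it central in `N`
    obtain ⟨T, hT⟩ := (IsPGroup.of_card (p := 2) (G := U') (n := 2) (by rw [hU'c]; norm_num)).exists_le_sylow
    obtain ⟨T₀⟩ := (inferInstance : Nonempty (Sylow 2 N))
    obtain ⟨T', hT'⟩ := (T₀.2.map N.subtype).exists_le_sylow
    have hT'N : (T' : Subgroup G) ≤ N := by
      have h0 : Nat.card ↥(T₀ : Subgroup N) = 16 := by
        rw [card_sylow_eq (a := 4) (m := 5) (by rw [hN]; norm_num) (by norm_num) T₀]; norm_num
      have h1 : Nat.card ↥(T' : Subgroup G) = 16 := by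
        rw [card_sylow_eq (a := 4) (m := 105) (by rw [hn]; norm_num) (by norm_num) T']; norm_num
      rw [← eq_of_le_of_card_ge hT' (by
        rw [card_map_of_injective (subtype_injective N), h0, h1])]
      exact map_subtype_le _
    have hU'N : U' ≤ N := (map_subtype_le _).trans hCN
    let act : MulAction ↥(T' : Subgroup G) U' :=
      { smul := fun g u => ⟨g * u * (g : G)⁻¹, hU'n g (hT'N g.2) u u.2⟩
        one_smul := fun u => Subtype.ext (by
          show ((1 : ↥(T' : Subgroup G)) : G) * u * ((1 : ↥(T' : Subgroup G)) : G)⁻¹ = u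
          simp)
        mul_smul := fun g h u => Subtype.ext (by
          show ((g * h : ↥(T' : Subgroup G)) : G) * u * ((g * h : ↥(T' : Subgroup G)) : G)⁻¹ =
            g * (h * u * (h : G)⁻¹) * (g : G)⁻¹
          rw [Subgroup.coe_mul]; group) }
    obtain ⟨u, hu, hu1⟩ := T'.2.exists_fixed_point_of_prime_dvd_card_of_fixed_point U'
      (by rw [hU'c]; norm_num)
      (show (1 : U') ∈ fixedPoints _ _ from fun g => Subtype.ext (by
        show (g : G) * ((1 : U') : G) * (g : G)⁻¹ = ((1 : U') : G)
        simp))
    have hud : orderOf (u : G) ∣ 4 := hU'c ▸ Subgroup.orderOf_dvd_natCard _ u.2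
    have hue : ∃ w : G, w ∈ zpowers (u : G) ∧ orderOf w = 2 := by
      obtain ⟨i, hi2, hi⟩ := (Nat.dvd_prime_pow Nat.prime_two (m := 2)).mp hud
      interval_cases i
      · exact absurd (Subtype.ext (orderOf_eq_one_iff.mp hi)).symm hu1
      · exact ⟨u, mem_zpowers _, hi⟩
      · exact ⟨(u : G) ^ 2, pow_mem (mem_zpowers _) 2, by
          rw [orderOf_pow_of_dvd two_ne_zero (by rw [hi]; norm_num), hi]; norm_num⟩
    obtain ⟨t, htu, ht⟩ := hue
    have htC : t ∈ C := map_subtype_le _ (zpowers_le.mpr u.2 htu)
    have hTt : ∀ g ∈ (T' : Subgroup G), Commute g t := by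
      intro g hg
      obtain ⟨i, rfl⟩ := mem_zpowers_iff.mp htu
      have h := congrArg Subtype.val (hu ⟨g, hg⟩)
      exact (show Commute g (u : G) from mul_inv_eq_iff_eq_mul.mp h).zpow_right i
    have hNt : N ≤ centralizer ({t} : Set G) := by
      have h1 : (P : Subgroup G) ⊔ (T' : Subgroup G) ≤ centralizer ({t} : Set G) :=
        sup_le (fun a ha => mem_centralizer_singleton_iff.mpr (mem_centralizer_iff.mp htC a ha))
          fun a ha => mem_centralizer_singleton_iff.mpr (hTt a ha)
      have h2 : (P : Subgroup G) ⊔ (T' : Subgroup G) = N := by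
        refine eq_of_le_of_card_ge (sup_le le_normalizer hT'N) ?_
        rw [hN]
        refine Nat.le_of_dvd Nat.card_pos ((show Nat.Coprime 5 16 by norm_num).mul_dvd_of_dvd_of_dvd
          ?_ ?_)
        · conv_lhs => rw [← hP]
          exact Subgroup.card_dvd_of_le le_sup_left
        · conv_lhs => rw [show 16 = Nat.card ↥(T' : Subgroup G) by
            rw [card_sylow_eq (a := 4) (m := 105) (by rw [hn]; norm_num) (by norm_num) T']; norm_num]
          exact Subgroup.card_dvd_of_le le_sup_right
      exact h2 ▸ h1
    have hf := fixed_add_eq hG (r := 2) (by norm_num) P hP ht htC (by rw [h5]; decide)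
    rw [h5, show Classification.movedBlock 2 = 4 from rfl] at hf
    have hiso : ∀ g : G, g * t * g⁻¹ ∈ (T' : Subgroup G) → g * t * g⁻¹ = t := fun g hg =>
      mul_inv_eq_iff_eq_mul.mpr (mem_centralizer_singleton_iff.mp
        (hNt (mem_of_fixed_one P (hCN htC) (by omega) (hT'N hg))))
    have htT' : t ∈ (T' : Subgroup G) := by
      have hle : zpowers t ≤ normalizer ((T' : Subgroup G) : Set G) := by
        rw [zpowers_le, mem_normalizer_iff]
        intro a
        constructor
        · intro ha
          rwa [show t * a * t⁻¹ = a from mul_inv_eq_iff_eq_mul.mpr (hTt a ha).eq.symm]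
        · intro ha
          have := hTt _ ha
          have h2 : t * a * t⁻¹ = a := by
            have h3 := this.eq
            calc t * a * t⁻¹ = t⁻¹ * (t * a * t⁻¹ * t) := by
                  rw [h3]; group
              _ = a := by group
          rwa [h2] at ha
      have hpg : IsPGroup 2 (zpowers t) :=
        IsPGroup.of_card (n := 1) (by rw [Nat.card_zpowers, ht, pow_one])
      exact ((le_inf le_rfl hle).trans ((hpg.inf_normalizer_sylow T').le.trans inf_le_right))
        (mem_zpowers t)
    obtain ⟨M, hM, hMo, hMt⟩ := S0215.result T' t ht htT' hiso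
    rcases hM.eq_bot_or_eq_top with rfl | rfl
    · refine SO89.centralizer_ne_top hG (y := t) (fun h => by rw [h, orderOf_one] at ht; norm_num at ht)
        (eq_top_iff' _ |>.mpr fun g => mem_centralizer_singleton_iff.mpr ?_)
      have h := mem_bot.mp (hMt g)
      rw [mul_inv_eq_one, mul_inv_eq_iff_eq_mul] at h
      exact h.symm
    · rw [card_top, hn] at hMo
      exact absurd hMo (by decide)
  · obtain ⟨hP, -, e, he, he2, heN, -, hC, -⟩ := shape_eq hG (q := 5) (m := 336) (N := 30)
      (by rw [hn]; norm_num) (by norm_num) h5 (by norm_num) P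
    have he' : e = 2 := by
      have : e ≤ 4 := Nat.divisor_le he
      interval_cases e <;> revert he heN <;> decide
    subst he'
    obtain ⟨R, hR5⟩ := SO89.cross P hP hS3 (by rw [hC]; norm_num)
    obtain ⟨hR, -, e', he', he2', -, -, hCR, -⟩ := shape_eq hG (q := 3) (m := 560)
      (N := 1680 / Nat.card (Sylow 3 G)) (by rw [hn]; norm_num) (by norm_num) rfl
      (by rcases h3 with h | h | h | h <;> rw [h] <;> norm_num) R
    obtain rfl : e' = 2 := by have : e' ≤ 2 := Nat.divisor_le he'; omega
    obtain ⟨z, hz, -, hzo, hzR⟩ := exists_generator hR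
    rw [show centralizer ((R : Subgroup G) : Set G) = centralizer ({z} : Set G) by
      rw [← hzR, zpowers_eq_closure, centralizer_closure]] at hCR hR5
    have hone : Nat.card (Sylow 5 ↥(centralizer ({z} : Set G))) = 1 := by
      rcases h3 with h | h | h | h <;> rw [h] at hCR <;> norm_num at hCR <;>
        first
        | (rw [hCR] at hR5; norm_num at hR5; done)
        | skip
      have hd := sylow_centralizer_dvd (p := 5) (r := 3) (m := 2) (by norm_num) hzo (by rw [hCR])
      have h1 := card_sylow_modEq_one 5 ↥(centralizer ({z} : Set G))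
      unfold Nat.ModEq at h1
      have := Nat.le_of_dvd (by norm_num) hd
      omega
    have h := mod_le_one (p := 5) (r := 3) (by norm_num) hS5 hzo hone
    rw [h5] at h
    norm_num at h

end Cfsg.Agent.SmallS16.GapA
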