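import Cfsg.Agent.SmallS16.GapA.Tools
import Cfsg.Agent.S2807

set_option autoImplicit false

/-!
# Local lemmas for Sylow `3`-subgroups of order twenty-seven
-/

namespace Cfsg.Agent.SmallS16.GapA

open Subgroup MulAction SmallGroups

/-- In a group of order `12 |K|` with several Sylow `3`-subgroups modulo the `3`-subgroup `K`. -/
theorem quot_data {H : Type*} [Group H] [Finite H] {K : Subgroup H} [K.Normal] {b : ℕ}
    (hK : Nat.card K = 3 ^ b) (hH : Nat.card H = 12 * 3 ^ b)
    (hn : Nat.card (Sylow 3 H) ≠ 1) :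
    (∀ T₁ T₂ : Sylow 2 (H ⧸ K), T₁ = T₂) ∧ ∀ q : H ⧸ K, orderOf q ≠ 6 := by
  classical
  have : Fact (Nat.Prime 2) := ⟨Nat.prime_two⟩
  have : Fact (Nat.Prime 3) := ⟨Nat.prime_three⟩
  have hQ : Nat.card (H ⧸ K) = 12 := by
    have h := K.card_eq_card_quotient_mul_card_subgroup
    rw [hH, hK] at h
    exact (Nat.eq_of_mul_eq_mul_right (pow_pos (by norm_num) b) h).symm
  have h4 : Nat.card (Sylow 3 (H ⧸ K)) = 4 := by
    have h := card_sylow_mem_list (G := H ⧸ K) (p := 3) (a := 1) (m := 4)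
      (by rw [hQ]; norm_num) (by norm_num)
    rw [show (Nat.divisors 4).filter (fun d => d % 3 = 1) = {1, 4} by decide,
      Finset.mem_insert, Finset.mem_singleton] at h
    refine h.resolve_left fun h1 => hn ?_
    obtain ⟨R⟩ := (inferInstance : Nonempty (Sylow 3 (H ⧸ K)))
    have hRn := normal_of_card_sylow_eq_one h1 R
    set L := (R : Subgroup (H ⧸ K)).comap (QuotientGroup.mk' K)
    have hLn : L.Normal := hRn.comap _
    have hL : Nat.card L = 3 ^ (b + 1) := by
      have h2 := L.card_mul_index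
      rw [index_comap_of_surjective _ (QuotientGroup.mk'_surjective K),
        index_sylow_eq (a := 1) (m := 4) (by rw [hQ]; norm_num) (by norm_num) R, hH] at h2
      refine Nat.eq_of_mul_eq_mul_right (show 0 < 4 by norm_num) ?_
      rw [h2, pow_succ]
      ring
    refine Nat.card_eq_one_iff_unique.mpr ⟨⟨fun S T => ?_⟩, inferInstance⟩
    have hle : ∀ S : Sylow 3 H, (S : Subgroup H) = L := by
      intro S
      refine (S.is_maximal' (IsPGroup.of_card hL) ?_).symm
      have hp := S.2.inf_normalizer_sylow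
      obtain ⟨S', hS'⟩ := (IsPGroup.of_card hL).exists_le_sylow
      have hS'L : (S' : Subgroup H) = L := by
        refine (eq_of_le_of_card_ge hS' (le_of_eq ?_)).symm
        rw [hL, card_sylow_eq (a := b + 1) (m := 4) (by rw [hH, pow_succ]; ring) (by norm_num) S']
      have hn' : (S' : Subgroup H).Normal := hS'L.symm ▸ hLn
      have h1 : Subsingleton (Sylow 3 H) :=
        (Sylow.unique_of_normal S' hn').instSubsingleton
      rw [Subsingleton.elim S S', hS'L]
    exact Sylow.ext ((hle S).trans (hle T).symm)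
  have hR3 : ∀ R : Sylow 3 (H ⧸ K), Nat.card ↥(R : Subgroup (H ⧸ K)) = 3 := fun R =>
    (card_sylow_eq (a := 1) (m := 4) (by rw [hQ]; norm_num) (by norm_num) R).trans (pow_one 3)
  have h8 : Nat.card {q : H ⧸ K // orderOf q = 3} = 8 := by
    rw [card_orderOf_eq hR3, h4]
  have hrest : Nat.card {q : H ⧸ K // orderOf q ≠ 3} = 4 := by
    have := Fintype.ofFinite (H ⧸ K)
    rw [Nat.card_eq_fintype_card, Fintype.card_subtype] at h8
    rw [Nat.card_eq_fintype_card, Fintype.card_subtype]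
    have h := Finset.card_filter_add_card_filter_not
      (s := (Finset.univ : Finset (H ⧸ K))) (fun q => orderOf q = 3)
    rw [Finset.card_univ, ← Nat.card_eq_fintype_card, hQ] at h
    simp only [ne_eq] at h8 ⊢
    omega
  have hT4 : ∀ T : Sylow 2 (H ⧸ K), Nat.card ↥(T : Subgroup (H ⧸ K)) = 4 := fun T => by
    rw [card_sylow_eq (a := 2) (m := 3) (by rw [hQ]; norm_num) (by norm_num) T]; norm_num
  have hTset : ∀ (T : Sylow 2 (H ⧸ K)) (q : H ⧸ K),
      q ∈ (T : Subgroup (H ⧸ K)) ↔ orderOf q ≠ 3 := by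
    intro T q
    have hd : ∀ r ∈ (T : Subgroup (H ⧸ K)), orderOf r ≠ 3 := by
      intro r hr h3
      have := Subgroup.orderOf_dvd_natCard _ hr
      rw [h3, hT4] at this
      norm_num at this
    refine ⟨hd q, fun hq => ?_⟩
    let j : ↥(T : Subgroup (H ⧸ K)) → {r : H ⧸ K // orderOf r ≠ 3} := fun r => ⟨r, hd r r.2⟩
    have hj : Function.Bijective j := (Nat.bijective_iff_injective_and_card j).mpr
      ⟨fun r s h => Subtype.ext (congrArg (fun a => (a : {r : H ⧸ K // orderOf r ≠ 3}).1) h),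
        by rw [hT4, hrest]⟩
    obtain ⟨r, hr⟩ := hj.2 ⟨q, hq⟩
    rw [← show (r : H ⧸ K) = q from congrArg Subtype.val hr]
    exact r.2
  refine ⟨fun T₁ T₂ => Sylow.ext (Subgroup.ext fun q => by rw [hTset, hTset]), fun q hq => ?_⟩
  obtain ⟨T⟩ := (inferInstance : Nonempty (Sylow 2 (H ⧸ K)))
  have := Subgroup.orderOf_dvd_natCard _ ((hTset T q).mpr (by omega))
  rw [hq, hT4] at this
  norm_num at this

/-- The Sylow `2`-subgroup is normal as soon as it centralises `K`. -/
theorem sylow_two_normal {H : Type*} [Group H] [Finite H] {K : Subgroup H} [K.Normal] {b : ℕ}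
    (hK : Nat.card K = 3 ^ b) (hH : Nat.card H = 12 * 3 ^ b)
    (hn : Nat.card (Sylow 3 H) ≠ 1) (T : Sylow 2 H)
    (hc : ∀ a ∈ (T : Subgroup H), ∀ k ∈ K, Commute a k) : (T : Subgroup H).Normal := by
  have : Fact (Nat.Prime 2) := ⟨Nat.prime_two⟩
  refine ⟨fun a ha h => ?_⟩
  have huniq := (quot_data hK hH hn).1
  set T' : Sylow 2 (H ⧸ K) := T.mapSurjective (QuotientGroup.mk'_surjective K)
  have hn' : (T' : Subgroup (H ⧸ K)).Normal := by
    have : Subsingleton (Sylow 2 (H ⧸ K)) := ⟨huniq⟩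
    exact Sylow.normal_of_subsingleton T'
  have hmem : QuotientGroup.mk' K (h * a * h⁻¹) ∈ (T' : Subgroup (H ⧸ K)) := by
    rw [map_mul, map_mul, map_inv]
    exact hn'.conj_mem _ (Subgroup.mem_map_of_mem _ ha) _
  obtain ⟨c, hcT, hck⟩ := hmem
  have hk : c⁻¹ * (h * a * h⁻¹) ∈ K :=
    (QuotientGroup.eq).mp (hck : (c : H ⧸ K) = ((h * a * h⁻¹ : H) : H ⧸ K))
  set k := c⁻¹ * (h * a * h⁻¹) with hkdef
  have ha4 : a ^ 4 = 1 ∧ c ^ 4 = 1 := by
    have hT : Nat.card ↥(T : Subgroup H) = 4 := by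
      rw [card_sylow_eq (a := 2) (m := 3 ^ (b + 1)) (by rw [hH, pow_succ]; ring)
        (fun h => by have := Nat.prime_two.dvd_of_dvd_pow h; norm_num at this) T]
      norm_num
    constructor <;>
    · rw [← hT, ← orderOf_dvd_iff_pow_eq_one]
      exact Subgroup.orderOf_dvd_natCard _ (by assumption)
  have hk4 : k ^ 4 = 1 := by
    have h1 : (c * k) ^ 4 = 1 := by
      rw [hkdef, mul_inv_cancel_left, conj_pow, ha4.1]
      group
    rwa [(hc c hcT k hk).mul_pow, ha4.2, one_mul] at h1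
  have hk1 : k = 1 := by
    refine orderOf_eq_one_iff.mp (Nat.eq_one_of_dvd_coprimes ?_ (orderOf_dvd_of_pow_eq_one hk4)
      (hK ▸ Subgroup.orderOf_dvd_natCard _ hk))
    exact Nat.Coprime.pow_right b (by norm_num)
  rw [hkdef, inv_mul_eq_one] at hk1
  rw [← hk1]
  exact hcT

/-- An involution fixing a point of `A` centralises `A`. -/
theorem sylow_two_centralizes {H : Type*} [Group H] [Finite H] {A : Subgroup H} [A.Normal]
    (hA : Nat.card A = 9) (hH : Nat.card H = 108) (hn : Nat.card (Sylow 3 H) ≠ 1)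
    {t y : H} (ht : orderOf t = 2) (hy : y ∈ A) (hy1 : y ≠ 1) (hty : Commute t y)
    (T : Sylow 2 H) : ∀ a ∈ (T : Subgroup H), ∀ k ∈ A, Commute a k := by
  classical
  have : Fact (Nat.Prime 2) := ⟨Nat.prime_two⟩
  have : Fact (Nat.Prime 3) := ⟨Nat.prime_three⟩
  have hAc : ∀ a ∈ A, ∀ b ∈ A, Commute a b := fun a ha b hb => congrArg Subtype.val
    ((IsPGroup.isMulCommutative_of_card_eq_prime_sq (p := 3) (by rw [hA]; norm_num)).is_comm.comm
      (⟨a, ha⟩ : A) ⟨b, hb⟩)
  obtain ⟨huniq, h6⟩ := quot_data (b := 2) (by rw [hA]; norm_num) (by rw [hH]; norm_num) hn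
  set mk := QuotientGroup.mk' A
  have hQ : Nat.card (H ⧸ A) = 12 := by
    have h := A.card_eq_card_quotient_mul_card_subgroup
    rw [hH, hA] at h
    omega
  have ht2 : orderOf (mk t) = 2 := by
    refine orderOf_eq_prime ?_ fun h => ?_
    · rw [← map_pow, ← ht, pow_orderOf_eq_one, map_one]
    · have hm : t ∈ A := (QuotientGroup.eq_one_iff t).mp h
      have := Subgroup.orderOf_dvd_natCard _ hm
      rw [ht, hA] at this
      norm_num at this
  obtain ⟨u, hu⟩ := exists_prime_orderOf_dvd_card' (G := H ⧸ A) 3 (by rw [hQ]; norm_num)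
  obtain ⟨u', hu'⟩ := QuotientGroup.mk'_surjective A u
  set T' : Sylow 2 (H ⧸ A) := T.mapSurjective (QuotientGroup.mk'_surjective A)
  have hinT : ∀ q : H ⧸ A, orderOf q = 2 → q ∈ (T' : Subgroup (H ⧸ A)) := by
    intro q hq
    obtain ⟨S, hS⟩ := exists_mem_sylow hq
    rwa [huniq S T'] at hS
  have hne : ∀ i : ℕ, ¬ 3 ∣ i → u ^ i * mk t * (u ^ i)⁻¹ ≠ mk t := by
    intro i hi h
    have hc : Commute (u ^ i) (mk t) := mul_inv_eq_iff_eq_mul.mp h
    have hui : orderOf (u ^ i) = 3 := by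
      rw [Nat.Coprime.orderOf_pow (by rw [hu]; exact (Nat.prime_three.coprime_iff_not_dvd.mpr hi)), hu]
    apply h6 (u ^ i * mk t)
    rw [hc.orderOf_mul_eq_mul_orderOf_of_coprime (by rw [hui, ht2]; norm_num), hui, ht2]
  -- every element outside `A` of `T A` is a conjugate of `t` modulo `A`
  have hconj : ∀ a ∈ (T : Subgroup H), a ≠ 1 → ∃ h : H, (h * t * h⁻¹)⁻¹ * a ∈ A := by
    intro a ha ha1
    have hmk : mk a ∈ (T' : Subgroup (H ⧸ A)) := Subgroup.mem_map_of_mem _ ha
    let j : Option (Fin 3) → ↥(T' : Subgroup (H ⧸ A)) := fun o => o.elim 1 fun i =>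
      ⟨u ^ (i : ℕ) * mk t * (u ^ (i : ℕ))⁻¹, hinT _ (by
        rw [← MulAut.conj_apply, MulEquiv.orderOf_eq, ht2])⟩
    have hj : Function.Injective j := by
      have h1 : ∀ i : Fin 3, u ^ (i : ℕ) * mk t * (u ^ (i : ℕ))⁻¹ ≠ 1 := fun i h => by
        rw [mul_inv_eq_one, mul_eq_left] at h
        rw [h, orderOf_one] at ht2
        norm_num at ht2
      rintro (_ | i) (_ | k) h
      · rfl
      · exact absurd (congrArg Subtype.val h).symm (h1 k)
      · exact absurd (congrArg Subtype.val h) (h1 i)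
      · have h' : u ^ (i : ℕ) * mk t * (u ^ (i : ℕ))⁻¹ = u ^ (k : ℕ) * mk t * (u ^ (k : ℕ))⁻¹ :=
          congrArg Subtype.val h
        have key : ∀ m n : ℕ, m < n → n < 3 →
            u ^ m * mk t * (u ^ m)⁻¹ ≠ u ^ n * mk t * (u ^ n)⁻¹ := by
          intro m n hmn hn3 h
          obtain ⟨d, rfl⟩ := Nat.exists_eq_add_of_le hmn.le
          refine hne d (fun hd => by have := Nat.le_of_dvd (by omega) hd; omega) ?_
          rw [pow_add] at h
          refine mul_left_cancel (a := u ^ m) (mul_right_cancel (b := (u ^ m)⁻¹) ?_)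
          rw [h]; group
        rcases lt_trichotomy (i : ℕ) k with hlt | heq | hgt
        · exact absurd h' (key _ _ hlt k.2)
        · exact congrArg some (Fin.ext heq)
        · exact absurd h'.symm (key _ _ hgt i.2)
    have hjb : Function.Bijective j := (Nat.bijective_iff_injective_and_card j).mpr ⟨hj, by
      rw [card_sylow_eq (a := 2) (m := 3) (by rw [hQ]; norm_num) (by norm_num) T',
        Nat.card_eq_fintype_card, Fintype.card_option, Fintype.card_fin]
      norm_num⟩
    obtain ⟨o, ho⟩ := hjb.2 ⟨mk a, hmk⟩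
    rcases o with _ | i
    · exfalso
      have hm : a ∈ A := (QuotientGroup.eq_one_iff a).mp (congrArg Subtype.val ho).symm
      have h1 := Subgroup.orderOf_dvd_natCard _ hm
      have h2 := Subgroup.orderOf_dvd_natCard _ ha
      rw [hA] at h1
      rw [card_sylow_eq (a := 2) (m := 27) (by rw [hH]; norm_num) (by norm_num) T] at h2
      exact ha1 (orderOf_eq_one_iff.mp (Nat.eq_one_of_dvd_coprimes (by norm_num) h1 h2))
    · refine ⟨u' ^ (i : ℕ), (QuotientGroup.eq).mp ?_⟩
      have h := congrArg Subtype.val ho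
      change u ^ (i : ℕ) * mk t * (u ^ (i : ℕ))⁻¹ = mk a at h
      rw [← hu', ← map_pow, ← map_inv, ← map_mul, ← map_mul] at h
      exact h
  -- Burnside's lemma on `A`
  let act : MulAction ↥(T : Subgroup H) A :=
    { smul := fun g k => ⟨g * k * (g : H)⁻¹, ‹A.Normal›.conj_mem _ k.2 _⟩
      one_smul := fun k => Subtype.ext (by
        show ((1 : ↥(T : Subgroup H)) : H) * k * ((1 : ↥(T : Subgroup H)) : H)⁻¹ = k
        simp)
      mul_smul := fun g h k => Subtype.ext (by
        show ((g * h : ↥(T : Subgroup H)) : H) * k * ((g * h : ↥(T : Subgroup H)) : H)⁻¹ =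
          g * (h * k * (h : H)⁻¹) * (g : H)⁻¹
        rw [Subgroup.coe_mul]; group) }
  have hFix : ∀ g : ↥(T : Subgroup H), g ≠ 1 →
      Nat.card (fixedBy A g) = Nat.card ↥(A ⊓ centralizer ({t} : Set H)) := by
    intro g hg
    obtain ⟨h, hh⟩ := hconj g g.2 fun h => hg (Subtype.ext h)
    set k := (h * t * h⁻¹)⁻¹ * (g : H) with hkdef
    have hgk : (g : H) = h * t * h⁻¹ * k := by rw [hkdef]; group
    refine Nat.card_congr
      { toFun := fun v => ⟨h⁻¹ * (v : A) * h, ?_⟩
        invFun := fun v => ⟨⟨h * v * h⁻¹, ‹A.Normal›.conj_mem _ v.2.1 _⟩, ?_⟩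
        left_inv := fun v => Subtype.ext (Subtype.ext (by simp [mul_assoc]))
        right_inv := fun v => Subtype.ext (by simp [mul_assoc]) }
    · have hm : h⁻¹ * ((v : A) : H) * h ∈ A := by
        have := ‹A.Normal›.conj_mem _ v.1.2 h⁻¹
        rwa [inv_inv] at this
      refine ⟨hm, mem_centralizer_singleton_iff.mpr ?_⟩
      have hv : (g : H) * (v : A) * (g : H)⁻¹ = ((v : A) : H) := congrArg Subtype.val v.2
      rw [hgk] at hv
      have hkv : k * ((v : A) : H) * k⁻¹ = ((v : A) : H) :=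
        mul_inv_eq_iff_eq_mul.mpr (hAc _ hh _ v.1.2).eq
      have hv' : h * t * h⁻¹ * ((v : A) : H) * (h * t * h⁻¹)⁻¹ = ((v : A) : H) := by
        calc h * t * h⁻¹ * ((v : A) : H) * (h * t * h⁻¹)⁻¹
            = h * t * h⁻¹ * (k * ((v : A) : H) * k⁻¹) * (h * t * h⁻¹)⁻¹ := by rw [hkv]
          _ = h * t * h⁻¹ * k * ((v : A) : H) * (h * t * h⁻¹ * k)⁻¹ := by group
          _ = _ := hv
      refine mul_inv_eq_iff_eq_mul.mp ?_ |>.symm
      calc t * (h⁻¹ * ((v : A) : H) * h) * t⁻¹
          = h⁻¹ * (h * t * h⁻¹ * ((v : A) : H) * (h * t * h⁻¹)⁻¹) * h := by group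
        _ = _ := by rw [hv']
    · refine Subtype.ext ?_
      show (g : H) * (h * (v : H) * h⁻¹) * (g : H)⁻¹ = h * (v : H) * h⁻¹
      have hm := ‹A.Normal›.conj_mem _ v.2.1 h
      have hkv : k * (h * (v : H) * h⁻¹) * k⁻¹ = h * (v : H) * h⁻¹ :=
        mul_inv_eq_iff_eq_mul.mpr (hAc _ hh _ hm).eq
      calc (g : H) * (h * (v : H) * h⁻¹) * (g : H)⁻¹
          = h * t * h⁻¹ * (k * (h * (v : H) * h⁻¹) * k⁻¹) * (h * t * h⁻¹)⁻¹ := by rw [hgk]; group
        _ = h * (t * (v : H) * t⁻¹) * h⁻¹ := by rw [hkv]; group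
        _ = _ := by rw [← mem_centralizer_singleton_iff.mp v.2.2, mul_inv_cancel_right]
  set f := Nat.card ↥(A ⊓ centralizer ({t} : Set H))
  have hf9 : f ∣ 9 := hA ▸ Subgroup.card_dvd_of_le inf_le_left
  have hf1 : f ≠ 1 := fun h => by
    have hb : A ⊓ centralizer ({t} : Set H) = ⊥ := card_eq_one.mp h
    have hm : y ∈ A ⊓ centralizer ({t} : Set H) :=
      ⟨hy, mem_centralizer_singleton_iff.mpr hty.eq.symm⟩
    rw [hb, mem_bot] at hm
    exact hy1 hm
  have := Fintype.ofFinite A
  have := Fintype.ofFinite ↥(T : Subgroup H)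
  have := Fintype.ofFinite (Quotient (orbitRel ↥(T : Subgroup H) A))
  have hB := MulAction.sum_card_fixedBy_eq_card_orbits_mul_card_group ↥(T : Subgroup H) A
  have hT4 : Fintype.card ↥(T : Subgroup H) = 4 := by
    rw [← Nat.card_eq_fintype_card,
      card_sylow_eq (a := 2) (m := 27) (by rw [hH]; norm_num) (by norm_num) T]
    norm_num
  rw [← Finset.add_sum_erase _ _ (Finset.mem_univ (1 : ↥(T : Subgroup H))),
    Finset.sum_congr rfl (fun g hg => by
      rw [← Nat.card_eq_fintype_card, hFix g (Finset.ne_of_mem_erase hg)]),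
    Finset.sum_const, Finset.card_erase_of_mem (Finset.mem_univ _), Finset.card_univ, hT4,
    smul_eq_mul, ← Nat.card_eq_fintype_card,
    Nat.card_congr (Equiv.subtypeUnivEquiv (fun k : A => (one_smul _ k : (1 : ↥(T : Subgroup H)) • k = k)) :
      fixedBy A (1 : ↥(T : Subgroup H)) ≃ A), hA] at hB
  have hf : f = 9 := by
    obtain ⟨i, hi, hfi⟩ := (Nat.dvd_prime_pow Nat.prime_three (m := 2)).mp hf9
    interval_cases i <;> norm_num at hfi <;> omega
  intro a ha k hk
  by_cases ha1 : a = 1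
  · rw [ha1]; exact Commute.one_left k
  have hfull : fixedBy A (⟨a, ha⟩ : ↥(T : Subgroup H)) = Set.univ := by
    refine Set.eq_of_subset_of_ncard_le (Set.subset_univ _) ?_ Set.finite_univ
    rw [Set.ncard_univ, hA, ← Nat.card_coe_set_eq,
      hFix _ fun h => ha1 (congrArg Subtype.val h), hf]
  have h : (⟨k, hk⟩ : A) ∈ fixedBy A (⟨a, ha⟩ : ↥(T : Subgroup H)) := hfull ▸ Set.mem_univ _
  exact mul_inv_eq_iff_eq_mul.mp (congrArg Subtype.val h)

variable {G : Type*} [Group G] [Finite G]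

/-- Yoshida's transfer: an involution of `N(R)` centralises only central elements of `R`. -/
theorem central_of_commute [Fact (Nat.Prime 3)] (hperf : commutator G = ⊤) (R : Sylow 3 G)
    (hR : Nat.card ↥(R : Subgroup G) = 27)
    (hN : Nat.card ↥(normalizer ((R : Subgroup G) : Set G)) = 54)
    {u c : G} (hu : orderOf u = 2) (huN : u ∈ normalizer ((R : Subgroup G) : Set G))
    (hc : c ∈ (R : Subgroup G)) (huc : Commute u c) :
    ∀ a ∈ (R : Subgroup G), Commute a c := by
  classical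
  set N := normalizer ((R : Subgroup G) : Set G)
  have hRN' : (R : Subgroup G) ≤ ⁅N, N⁆ := by
    by_contra hne
    obtain ⟨W, φ, hφ⟩ := S2807.result R (fun h => hne (by
      rw [hperf, inf_top_eq] at h
      exact h.le.trans inf_le_right))
    have h81 : Nat.card ↥(W : Subgroup (Equiv.Perm (Fin (3 ^ 2)))) = 81 := by
      rw [card_sylow_eq (a := 4) (m := 4480) (by
        rw [Nat.card_eq_fintype_card, Fintype.card_perm, Fintype.card_fin]
        norm_num [Nat.factorial]) (by norm_num) W]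
      norm_num
    have h := Nat.card_le_card_of_surjective φ hφ
    rw [hR, h81] at h
    omega
  set R₀ := (R : Subgroup G).subgroupOf N
  have hR₀c : Nat.card R₀ = 27 := by
    rw [Nat.card_congr (subgroupOfEquivOfLe le_normalizer).toEquiv, hR]
  have hR₀n : R₀.Normal := normal_in_normalizer
  have hR₀i : R₀.index = 2 := by
    have h := R₀.card_mul_index
    rw [hR₀c, hN] at h
    omega
  have hcomm : ∀ a b : R₀, a * b * a⁻¹ * b⁻¹ ∈ center R₀ := by
    intro a b
    have hd : Nat.card (R₀ ⧸ center R₀) ∣ 9 := by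
      have hp : IsPGroup 3 R₀ := IsPGroup.of_card (n := 3) (by rw [hR₀c]; norm_num)
      have : Nontrivial R₀ := Finite.one_lt_card_iff_nontrivial.mp (by rw [hR₀c]; norm_num)
      have hnt := hp.center_nontrivial
      obtain ⟨j, hj0, hj⟩ := (hp.to_subgroup (center R₀)).nontrivial_iff_card.mp hnt
      have h := (center R₀).card_eq_card_quotient_mul_card_subgroup
      rw [hR₀c, hj] at h
      obtain ⟨j, rfl⟩ := Nat.exists_eq_add_one.mpr hj0
      refine ⟨3 ^ j, Nat.eq_of_mul_eq_mul_right (show 0 < 3 by norm_num) ?_⟩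
      rw [mul_assoc, ← pow_succ, ← h]
    have hab : IsMulCommutative (R₀ ⧸ center R₀) := by
      obtain ⟨i, hi, hci⟩ := (Nat.dvd_prime_pow Nat.prime_three (m := 2)).mp hd
      interval_cases i
      · have : Subsingleton (R₀ ⧸ center R₀) :=
          (Nat.card_eq_one_iff_unique.mp (hci.trans (pow_zero 3))).1
        exact ⟨⟨fun _ _ => Subsingleton.elim _ _⟩⟩
      · have := isCyclic_of_prime_card (hci.trans (pow_one 3))
        exact IsCyclic.isMulCommutative
      · exact IsPGroup.isMulCommutative_of_card_eq_prime_sq hci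
    rw [← QuotientGroup.eq_one_iff, QuotientGroup.mk_mul, QuotientGroup.mk_mul,
      QuotientGroup.mk_mul, QuotientGroup.mk_inv, QuotientGroup.mk_inv,
      hab.is_comm.comm (a : R₀ ⧸ center R₀) b]
    group
  set Z := (center R₀).map R₀.subtype with hZ
  have hZn : Z.Normal := ConjAct.normal_of_characteristic_of_normal
  have hZR : Z ≤ R₀ := map_subtype_le _
  set mk := QuotientGroup.mk' Z
  set H := R₀.map mk with hHdef
  have hHi : H.index = 2 := by
    rw [hHdef, index_map_eq _ (QuotientGroup.mk'_surjective Z)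
      (by rw [QuotientGroup.ker_mk']; exact hZR), hR₀i]
  have : IsMulCommutative H := ⟨⟨by
    rintro ⟨_, a, ha, rfl⟩ ⟨_, b, hb, rfl⟩
    refine Subtype.ext ?_
    show mk a * mk b = mk b * mk a
    rw [← mul_inv_eq_iff_eq_mul, ← mul_inv_eq_one, ← map_mul, ← map_inv, ← map_mul, ← map_inv,
      ← map_mul]
    exact (QuotientGroup.eq_one_iff _).mpr (mem_map_of_mem R₀.subtype (hcomm ⟨a, ha⟩ ⟨b, hb⟩))⟩⟩
  let cN : N := ⟨c, le_normalizer hc⟩
  have hcR : cN ∈ R₀ := hc
  have hcentral : ∀ q : N ⧸ Z, Commute (mk cN) q := by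
    intro q
    obtain ⟨g, rfl⟩ := QuotientGroup.mk'_surjective Z q
    have hmem : ∀ a ∈ R₀, Commute (mk cN) (mk a) := fun a ha =>
      congrArg Subtype.val (‹IsMulCommutative H›.is_comm.comm
        (⟨mk cN, mem_map_of_mem _ hcR⟩ : H) ⟨mk a, mem_map_of_mem _ ha⟩)
    have huR : (⟨u, huN⟩ : N) ∉ R₀ := by
      intro h
      have := Subgroup.orderOf_dvd_natCard _ (show u ∈ (R : Subgroup G) from h)
      rw [hu, hR] at this
      norm_num at this
    have hcu : Commute (mk cN) (mk ⟨u, huN⟩) :=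
      (show Commute cN (⟨u, huN⟩ : N) from Subtype.ext huc.symm.eq).map mk
    by_cases hg : g ∈ R₀
    · exact hmem g hg
    · have hgu : g * (⟨u, huN⟩ : N)⁻¹ ∈ R₀ :=
        (mul_mem_iff_of_index_two hR₀i).mpr (by
          constructor <;> intro h
          · exact absurd h hg
          · exact absurd (inv_mem_iff.mp h) huR)
      have := (hmem _ hgu).mul_right hcu
      rwa [← map_mul, inv_mul_cancel_right] at this
  open scoped IsMulCommutative in
  have htr := MonoidHom.transfer_eq_pow (MonoidHom.id H) (mk cN)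
    (fun k g₀ _ => by rw [mul_assoc, ((hcentral g₀).pow_left k).eq, inv_mul_cancel_left])
  have hker : mk cN ∈ commutator (N ⧸ Z) := by
    have h1 : cN ∈ commutator N := by
      have h2 := hRN' hc
      rw [← map_subtype_commutator, Subgroup.mem_map] at h2
      obtain ⟨d, hd, hdc⟩ := h2
      rwa [show cN = d from Subtype.ext hdc.symm]
    have h3 : (commutator N).map mk ≤ commutator (N ⧸ Z) := by
      rw [commutator_def, commutator_def, map_commutator]
      exact commutator_mono le_top le_top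
    exact h3 (mem_map_of_mem _ h1)
  open scoped IsMulCommutative in
  rw [MonoidHom.mem_ker.mp (Abelianization.commutator_subset_ker _ hker)] at htr
  have hsq : mk cN ^ 2 = 1 := by
    have h := congrArg Subtype.val htr.symm
    rw [← hHi]
    simpa using h
  have hodd : mk cN ^ 27 = 1 := by
    rw [← map_pow]
    have : cN ^ 27 = 1 := Subtype.ext (by
      show c ^ 27 = 1
      rw [← hR, ← orderOf_dvd_iff_pow_eq_one]
      exact Subgroup.orderOf_dvd_natCard _ hc)
    rw [this, map_one]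
  have h1 : mk cN = 1 := by
    calc mk cN = mk cN ^ 27 * ((mk cN ^ 2) ^ 13)⁻¹ := by group
      _ = 1 := by rw [hodd, hsq, one_pow, inv_one, one_mul]
  obtain ⟨z, hz, hzc⟩ := (QuotientGroup.eq_one_iff cN).mp h1
  intro a ha
  have h := congrArg (fun r : R₀ => ((r : N) : G))
    (Subgroup.mem_center_iff.mp hz ⟨⟨a, le_normalizer ha⟩, ha⟩)
  simp only [Subgroup.coe_mul] at h
  have hzc' : ((z : N) : G) = c := congrArg Subtype.val hzc
  rw [hzc'] at h
  exact h

end Cfsg.Agent.SmallS16.GapA
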