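import Cfsg.Agent.SO89.OrdersA
import Cfsg.Agent.Lib.SmallGroups.ThreePrimes

set_option autoImplicit false

/-!
# Local counting tools for simple groups of order between 1093 and 3640
-/

namespace Cfsg.Agent.SmallS16.GapA

open Subgroup MulAction SmallGroups

variable {G : Type*} [Group G] [Finite G]

omit [Finite G] in
/-- A Sylow subgroup of prime order lies in its centraliser. -/
theorem le_centralizer_self {p : ℕ} [Fact p.Prime] {P : Subgroup G} (hP : Nat.card P = p) :
    P ≤ centralizer (P : Set G) := by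
  intro a ha
  rw [mem_centralizer_iff]
  intro b hb
  have hc : IsCyclic ↥P := isCyclic_of_prime_card hP
  exact congrArg Subtype.val ((IsCyclic.isMulCommutative).is_comm.comm
    (⟨b, hb⟩ : ↥P) ⟨a, ha⟩)

/-- If `q ∤ |C(P)|` for every Sylow `p`-subgroup, no element has order divisible by `p` and `q`. -/
theorem not_mixed {p q : ℕ} [Fact p.Prime] [Fact q.Prime]
    (hP : ∀ P : Sylow p G, Nat.card ↥(P : Subgroup G) = p ∧
      ¬ q ∣ Nat.card ↥(centralizer ((P : Subgroup G) : Set G))) (g : G)
    (hg : p ∣ orderOf g) : ¬ q ∣ orderOf g := by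
  intro hgq
  obtain ⟨a, ha⟩ := hg
  obtain ⟨b, hb⟩ := hgq
  have h0 : 0 < orderOf g := orderOf_pos g
  have hx : orderOf (g ^ a) = p := by
    rw [orderOf_pow_of_dvd (by rintro rfl; omega) ⟨p, by rw [ha]; ring⟩, ha,
      Nat.mul_div_cancel _ (Nat.pos_of_ne_zero (by rintro rfl; omega))]
  have hy : orderOf (g ^ b) = q := by
    rw [orderOf_pow_of_dvd (by rintro rfl; omega) ⟨q, by rw [hb]; ring⟩, hb,
      Nat.mul_div_cancel _ (Nat.pos_of_ne_zero (by rintro rfl; omega))]
  obtain ⟨P, hxP⟩ := exists_mem_sylow hx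
  apply (hP P).2
  rw [← hy]
  refine Subgroup.orderOf_dvd_natCard _ ?_
  rw [mem_centralizer_iff]
  intro z hz
  have hx1 : g ^ a ≠ 1 := fun h => (Fact.out : p.Prime).ne_one (by rw [← hx, h, orderOf_one])
  rw [SetLike.mem_coe, ← zpowers_eq_of_card_prime (hP P).1 hxP hx1] at hz
  obtain ⟨i, rfl⟩ := mem_zpowers_iff.mp hz
  exact ((Commute.refl g).pow_pow a b).zpow_left i

/-- Elements of order divisible by `p`, for Sylow subgroups of order `p` with `e ≤ E`. -/
theorem card_dvd_orderOf {p n E : ℕ} [hp : Fact p.Prime] (hn : Nat.card G = n)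
    (hP : ∀ P : Sylow p G, Nat.card ↥(P : Subgroup G) = p ∧
      (centralizer ((P : Subgroup G) : Set G)).relIndex
        (normalizer ((P : Subgroup G) : Set G)) ≤ E) :
    n * (p - 1) ≤ p * E * Nat.card {g : G // p ∣ orderOf g} := by
  classical
  have := Fintype.ofFinite (Sylow p G)
  have hK : ∀ P : Sylow p G, ∃ K : Subgroup G, K ≤ centralizer ((P : Subgroup G) : Set G) ∧
      p * Nat.card K = Nat.card ↥(centralizer ((P : Subgroup G) : Set G)) ∧
      ¬ p ∣ Nat.card K := by
    intro P
    set C := centralizer ((P : Subgroup G) : Set G)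
    have hle : (P : Subgroup G) ≤ C := le_centralizer_self (hP P).1
    set P' : Sylow p C := P.subtype hle
    have hcP' : Nat.card ↥(P' : Subgroup C) = p := by
      rw [show ((P' : Sylow p C) : Subgroup C) = (P : Subgroup G).subgroupOf C from rfl,
        Nat.card_congr (subgroupOfEquivOfLe hle).toEquiv, (hP P).1]
    have hPn : (P' : Subgroup C).Normal := by
      refine ⟨fun a ha c => ?_⟩
      show ((c * a * c⁻¹ : C) : G) ∈ (P : Subgroup G)
      rw [Subgroup.coe_mul, Subgroup.coe_mul, Subgroup.coe_inv,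
        ← mem_centralizer_iff.mp c.2 (a : G) ha, mul_inv_cancel_right]
      exact ha
    have hco : Nat.Coprime (Nat.card ↥(P' : Subgroup C)) (P' : Subgroup C).index := by
      rw [hcP']
      exact hp.out.coprime_iff_not_dvd.mpr P'.not_dvd_index
    obtain ⟨K, hK⟩ := exists_right_complement'_of_coprime hco
    have hKm : p * Nat.card K = Nat.card C := by rw [← hK.card_mul_card, hcP']
    refine ⟨K.map C.subtype, map_subtype_le K, ?_, ?_⟩
    · rw [card_map_of_injective (subtype_injective C), hKm]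
    · rw [card_map_of_injective (subtype_injective C)]
      have h1 := (P' : Subgroup C).card_mul_index
      rw [hcP', ← hKm] at h1
      rw [← Nat.eq_of_mul_eq_mul_left hp.out.pos h1]
      exact P'.not_dvd_index
  choose K hKC hKc hKp using hK
  let D : Sylow p G → Type _ := fun P =>
    {y : ↥(P : Subgroup G) // y ≠ 1} × ↥(K P)
  let f : (Σ P : Sylow p G, D P) → {g : G // p ∣ orderOf g} := fun a =>
    ⟨(a.2.1.1 : G) * a.2.2, by
      have hy : orderOf (a.2.1.1 : G) = p := orderOf_of_card_prime (hP a.1).1 a.2.1.1.2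
        fun h => a.2.1.2 (Subtype.ext h)
      have hc : Commute (a.2.1.1 : G) (a.2.2 : G) :=
        mem_centralizer_iff.mp (hKC a.1 a.2.2.2) _ a.2.1.1.2
      have hk : orderOf (a.2.2 : G) ∣ Nat.card (K a.1) :=
        Subgroup.orderOf_dvd_natCard _ a.2.2.2
      have hco : Nat.Coprime p (orderOf (a.2.2 : G)) :=
        hp.out.coprime_iff_not_dvd.mpr fun h => hKp a.1 (h.trans hk)
      rw [hc.orderOf_mul_eq_mul_orderOf_of_coprime (hy.symm ▸ hco), hy]
      exact dvd_mul_right _ _⟩
  have key : ∀ a : Σ P : Sylow p G, D P,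
      (a.1 : Subgroup G) ≤ zpowers ((a.2.1.1 : G) * a.2.2) := by
    intro a
    have hy1 : (a.2.1.1 : G) ≠ 1 := fun h => a.2.1.2 (Subtype.ext h)
    refine le_trans (zpowers_eq_of_card_prime (hP a.1).1 a.2.1.1.2 hy1).ge ?_
    have hc : Commute (a.2.1.1 : G) (a.2.2 : G) :=
      mem_centralizer_iff.mp (hKC a.1 a.2.2.2) _ a.2.1.1.2
    set m := Nat.card (K a.1)
    have hym : ((a.2.1.1 : G) * a.2.2) ^ m = (a.2.1.1 : G) ^ m := by
      rw [hc.mul_pow, show (a.2.2 : G) ^ m = 1 from
        orderOf_dvd_iff_pow_eq_one.mp (Subgroup.orderOf_dvd_natCard _ a.2.2.2), mul_one]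
    obtain ⟨i, hi⟩ := exists_pow_eq_self_of_coprime
      (show Nat.Coprime m (orderOf (a.2.1.1 : G)) by
        rw [orderOf_of_card_prime (hP a.1).1 a.2.1.1.2 hy1]
        exact (hp.out.coprime_iff_not_dvd.mpr (hKp a.1)).symm)
    rw [zpowers_le]
    have h1 := pow_mem (pow_mem (mem_zpowers ((a.2.1.1 : G) * a.2.2)) m) i
    rwa [hym, hi] at h1
  have hinj : Function.Injective f := by
    intro a b h
    have h' : (a.2.1.1 : G) * a.2.2 = (b.2.1.1 : G) * b.2.2 := congrArg Subtype.val h
    have hab : (a.1 : Subgroup G) = (b.1 : Subgroup G) := by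
      have hb : (b.1 : Subgroup G) ≤ normalizer ((a.1 : Subgroup G) : Set G) := by
        refine le_trans (fun v hv => ?_) (centralizer_le_normalizer _)
        rw [mem_centralizer_iff]
        intro u hu
        obtain ⟨i, hi⟩ := mem_zpowers_iff.mp (key a hu)
        obtain ⟨j, hj⟩ := mem_zpowers_iff.mp (key b hv)
        rw [← h'] at hj
        rw [← hi, ← hj]
        exact ((Commute.refl ((a.2.1.1 : G) * a.2.2)).zpow_zpow i j).eq
      have h1 := (b.1.2).inf_normalizer_sylow a.1
      exact (eq_of_le_of_card_ge ((le_inf le_rfl hb).trans (h1.le.trans inf_le_right))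
        (by rw [(hP a.1).1, (hP b.1).1])).symm
    obtain ⟨P, u, k⟩ := a
    obtain ⟨Q, v, l⟩ := b
    obtain rfl : P = Q := Sylow.ext hab
    have hd : ((v.1 : G))⁻¹ * u.1 = l * (k : G)⁻¹ := by
      rw [eq_mul_inv_iff_mul_eq, mul_assoc, inv_mul_eq_iff_eq_mul]
      exact h'
    have h1 : orderOf ((v.1 : G)⁻¹ * u.1) ∣ p := by
      conv_rhs => rw [← (hP P).1]
      exact Subgroup.orderOf_dvd_natCard _ (mul_mem (inv_mem v.1.2) u.1.2)
    have h2 : orderOf ((v.1 : G)⁻¹ * u.1) ∣ Nat.card (K P) := by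
      rw [hd]
      exact Subgroup.orderOf_dvd_natCard _ (mul_mem l.2 (inv_mem k.2))
    have h3 : (v.1 : G)⁻¹ * u.1 = 1 := orderOf_eq_one_iff.mp
      (Nat.eq_one_of_dvd_coprimes (hp.out.coprime_iff_not_dvd.mpr (hKp P)) h1 h2)
    obtain rfl : v = u := Subtype.ext (Subtype.ext (inv_mul_eq_one.mp h3))
    obtain rfl : k = l := Subtype.ext (mul_left_cancel h')
    rfl
  have hle := Nat.card_le_card_of_injective f hinj
  rw [Nat.card_sigma] at hle
  calc n * (p - 1) = ∑ _P : Sylow p G, Nat.card ↥(normalizer ((Classical.arbitrary (Sylow p G) :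
          Subgroup G) : Set G)) * (p - 1) := by
        rw [Finset.sum_const, Finset.card_univ, smul_eq_mul, ← mul_assoc,
          ← Nat.card_eq_fintype_card, mul_comm (Nat.card (Sylow p G)), card_normalizer_mul, hn]
    _ ≤ ∑ P : Sylow p G, p * E * Nat.card (D P) := by
        refine Finset.sum_le_sum fun P _ => ?_
        have hN : Nat.card ↥(normalizer ((Classical.arbitrary (Sylow p G) : Subgroup G) : Set G)) =
            Nat.card ↥(normalizer ((P : Subgroup G) : Set G)) := by
          refine Nat.eq_of_mul_eq_mul_right (Nat.card_pos (α := Sylow p G)) ?_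
          rw [card_normalizer_mul, card_normalizer_mul]
        have h1 : Nat.card {y : ↥(P : Subgroup G) // y ≠ 1} = p - 1 := by
          have := Fintype.ofFinite ↥(P : Subgroup G)
          rw [Nat.card_eq_fintype_card, Fintype.card_subtype_compl, Fintype.card_subtype_eq,
            ← Nat.card_eq_fintype_card, (hP P).1]
        rw [hN, Nat.card_prod, h1, ← card_centralizer_mul_relIndex, ← hKc P]
        calc p * Nat.card (K P) * _ * (p - 1) ≤ p * Nat.card (K P) * E * (p - 1) :=
              Nat.mul_le_mul_right _ (Nat.mul_le_mul_left _ (hP P).2)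
          _ = _ := by ring
    _ = p * E * ∑ P : Sylow p G, Nat.card (D P) := (Finset.mul_sum _ _ _).symm
    _ ≤ _ := Nat.mul_le_mul_left _ hle

omit [Group G] in
/-- Three disjoint sets of elements. -/
theorem card_three_disjoint {P Q R : G → Prop} (hPQ : ∀ g, P g → ¬ Q g)
    (hPR : ∀ g, P g → ¬ R g) (hQR : ∀ g, Q g → ¬ R g) :
    Nat.card {g // P g} + Nat.card {g // Q g} + Nat.card {g // R g} ≤ Nat.card G := by
  classical
  rw [← Nat.card_sum, ← Nat.card_sum]
  refine Nat.card_le_card_of_injective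
    (Sum.elim (Sum.elim Subtype.val Subtype.val) Subtype.val) ?_
  rintro ((⟨a, ha⟩ | ⟨a, ha⟩) | ⟨a, ha⟩) ((⟨b, hb⟩ | ⟨b, hb⟩) | ⟨b, hb⟩) h <;>
    simp only [Sum.elim_inl, Sum.elim_inr] at h <;> subst h <;>
    first
      | rfl
      | exact absurd ha (hPQ _ hb) | exact absurd ha (hPR _ hb) | exact absurd ha (hQR _ hb)
      | exact absurd hb (hPQ _ ha) | exact absurd hb (hPR _ ha) | exact absurd hb (hQR _ ha)

/-- An element centralising a Sylow `p`-subgroup centralises only one if `n_p(C) = 1`. -/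
theorem mod_le_one {p r : ℕ} [hp : Fact p.Prime] [hr : Fact r.Prime]
    (hrp : ¬ r ∣ p - 1) (hPp : ∀ P : Sylow p G, Nat.card ↥(P : Subgroup G) = p) {z : G}
    (hz : orderOf z = r) (h1 : Nat.card (Sylow p ↥(centralizer ({z} : Set G))) = 1) :
    Nat.card (Sylow p G) % r ≤ 1 := by
  classical
  have hfix : Subsingleton (fixedBy (Sylow p G) z) := by
    refine ⟨fun a b => Subtype.ext ?_⟩
    suffices h : ∀ P : Sylow p G, z • P = P → (P : Subgroup G) ≤ centralizer ({z} : Set G) by
      have : Subsingleton (Sylow p ↥(centralizer ({z} : Set G))) :=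
        (Nat.card_eq_one_iff_unique.mp h1).1
      exact Sylow.subtype_injective (hP := h a.1 a.2) (hQ := h b.1 b.2) (Subsingleton.elim _ _)
    intro P hP
    have hzN : z ∈ normalizer ((P : Subgroup G) : Set G) :=
      Sylow.smul_eq_iff_mem_normalizer.mp hP
    have hmul := relIndex_centralizer_dvd_of_prime (p := p) (P : Subgroup G) (hPp P)
    have hzC : z ∈ centralizer ((P : Subgroup G) : Set G) := by
      have hn : ((centralizer ((P : Subgroup G) : Set G)).subgroupOf
          (normalizer ((P : Subgroup G) : Set G))).Normal := by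
        rw [← normalizerMonoidHom_ker]; infer_instance
      have h2 : z ^ (centralizer ((P : Subgroup G) : Set G)).relIndex
          (normalizer ((P : Subgroup G) : Set G)) ∈ centralizer ((P : Subgroup G) : Set G) :=
        Subgroup.pow_index_mem ((centralizer ((P : Subgroup G) : Set G)).subgroupOf
          (normalizer ((P : Subgroup G) : Set G))) (⟨z, hzN⟩ : normalizer ((P : Subgroup G) : Set G))
      obtain ⟨i, hi⟩ := exists_pow_eq_self_of_coprime
        (n := (centralizer ((P : Subgroup G) : Set G)).relIndex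
          (normalizer ((P : Subgroup G) : Set G))) (x := z) (by
          rw [hz]
          exact (hr.out.coprime_iff_not_dvd.mpr fun h => hrp (h.trans hmul)).symm)
      rw [← hi]
      exact pow_mem h2 i
    intro a ha
    exact mem_centralizer_singleton_iff.mpr (mem_centralizer_iff.mp hzC a ha)
  have hm := card_fixedBy_modEq_card (q := r) (α := Sylow p G) (x := z) (i := 1)
    (by rw [pow_one, ← hz, pow_orderOf_eq_one])
  have hle := Finite.card_le_one_iff_subsingleton.mpr hfix
  unfold Nat.ModEq at hm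
  rw [← hm, Nat.mod_eq_of_lt (lt_of_le_of_lt hle hr.out.one_lt)]
  exact hle

/-- A central element of order `r` leaves room for only few Sylow `p`-subgroups. -/
theorem sylow_centralizer_dvd {p r m : ℕ} [hp : Fact p.Prime] [hr : Fact r.Prime] (hrp : r ≠ p)
    {z : G} (hz : orderOf z = r)
    (hm : Nat.card ↥(centralizer ({z} : Set G)) = p * r * m) :
    Nat.card (Sylow p ↥(centralizer ({z} : Set G))) ∣ m := by
  set C := centralizer ({z} : Set G)
  obtain ⟨P⟩ := (inferInstance : Nonempty (Sylow p C))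
  have hzC : z ∈ C := mem_centralizer_singleton_iff.mpr rfl
  have hN : (⟨z, hzC⟩ : C) ∈ normalizer ((P : Subgroup C) : Set C) := by
    rw [mem_normalizer_iff]
    intro a
    have : (⟨z, hzC⟩ : C) * a * (⟨z, hzC⟩ : C)⁻¹ = a := by
      rw [mul_inv_eq_iff_eq_mul]
      exact Subtype.ext (mem_centralizer_singleton_iff.mp a.2).symm
    rw [this]
  have h1 : p ∣ Nat.card ↥(normalizer ((P : Subgroup C) : Set C)) :=
    (P.dvd_card_of_dvd_card ⟨r * m, by rw [hm]; ring⟩).trans (card_dvd_of_le le_normalizer)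
  have h2 : r ∣ Nat.card ↥(normalizer ((P : Subgroup C) : Set C)) := by
    have h := Subgroup.orderOf_dvd_natCard _ hN
    rwa [← Subgroup.orderOf_coe, hz] at h
  have h3 : p * r ∣ Nat.card ↥(normalizer ((P : Subgroup C) : Set C)) :=
    ((Nat.coprime_primes hp.out hr.out).mpr hrp.symm).mul_dvd_of_dvd_of_dvd h1 h2
  have h4 := Nat.mul_dvd_mul_right h3 (Nat.card (Sylow p C))
  rw [card_normalizer_mul, hm] at h4
  exact (Nat.mul_dvd_mul_iff_left (Nat.mul_pos hp.out.pos hr.out.pos)).mp h4

end Cfsg.Agent.SmallS16.GapA
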